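import Mathlib
import Cfsg.Prelude.Def_Blocks
import Cfsg.Agent.H686.CharKit
import Cfsg.Agent.H677.CodPrime
import Cfsg.Agent.S4797

/-!
# Codegrees counted with multiplicity: reduction to simple groups of equal order

* `cod χ`: the codegree `[G : ker χ] / χ(1)`;
* `cod_infl`: codegrees are invariant under inflation;
* `main`: if the finite group `G` has the same codegrees (with multiplicity) as the non-abelian
  simple group `S` then `G` is simple, `|G| = |S|` and the bijection preserves degrees.
-/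

set_option autoImplicit false

namespace Cfsg.Agent.H677.CodMultiset

open Cfsg Cfsg.Agent.H686.CharKit Cfsg.Agent.H677.CodPrime

universe u v

variable {G : Type u} [Group G] [Finite G]

/-- The codegree of an irreducible character. -/
noncomputable def cod (χ : IrrCharacter G) : ℕ :=
  Nat.card G / (Nat.card {g : G // (χ : G → ℂ) g = (χ : G → ℂ) 1} * charDegree (χ : G → ℂ))

omit [Finite G] in
theorem cod_def (χ : IrrCharacter G) : cod χ =
    Nat.card G / (Nat.card {g : G // (χ : G → ℂ) g = (χ : G → ℂ) 1} * charDegree (χ : G → ℂ)) := rfl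

theorem cod_eq (χ : IrrCharacter G) :
    cod χ = Nat.card G / (Nat.card (chKer χ) * charDegree (χ : G → ℂ)) := rfl

/-- The principal character. -/
def one (G : Type u) [Group G] : IrrCharacter G := ⟨1, Characters.Core.isIrr_one⟩

omit [Finite G] in
theorem charDegree_one : charDegree (one G : G → ℂ) = 1 := by
  rw [charDegree_eq_one_iff]
  rfl

/-- An irreducible character with kernel `G` is principal. -/
theorem eq_one_of_chKer {χ : IrrCharacter G} (h : chKer χ = ⊤) : χ = one G := by
  classical
  let _ := Fintype.ofFinite G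
  by_contra hne
  have h1 := Characters.Core.classInner_irr_ne χ.2 (one G).2 (fun h => hne (Subtype.ext h))
  rw [Characters.Core.classInner_def] at h1
  have h2 : ∀ g : G, (χ : G → ℂ) g = (χ : G → ℂ) 1 := fun g => by
    have : g ∈ chKer χ := by rw [h]; trivial
    exact mem_chKer.1 this
  have h3 : ∑ g : G, (χ : G → ℂ) g * (starRingEnd ℂ) ((one G : G → ℂ) g) =
      (Nat.card G : ℂ) * (χ : G → ℂ) 1 := by
    have h4 : ∀ g : G, (χ : G → ℂ) g * (starRingEnd ℂ) ((one G : G → ℂ) g) =
        (χ : G → ℂ) 1 := by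
      intro g
      rw [h2 g]
      change (χ : G → ℂ) 1 * (starRingEnd ℂ) ((1 : G → ℂ) g) = (χ : G → ℂ) 1
      simp
    rw [Finset.sum_congr rfl (fun g _ => h4 g), Finset.sum_const, Finset.card_univ, nsmul_eq_mul,
      Nat.card_eq_fintype_card]
  rw [h3, ← mul_assoc, inv_mul_cancel₀ (Characters.Core.card_ne_zero_complex), one_mul] at h1
  exact Characters.Core.isIrr_apply_one_ne_zero χ.2 h1

/-- Nonprincipal irreducible characters of a simple group are faithful. -/
theorem chKer_eq_bot [IsSimpleGroup G] {χ : IrrCharacter G} (h : χ ≠ one G) : chKer χ = ⊥ := by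
  rcases (chKer_normal χ).eq_bot_or_eq_top with h1 | h1
  · exact h1
  · exact absurd (eq_one_of_chKer h1) h

/-- For a nonprincipal irreducible character of a simple group, codegree times degree is the group
order. -/
theorem cod_mul [IsSimpleGroup G] {χ : IrrCharacter G} (h : χ ≠ one G) :
    cod χ * charDegree (χ : G → ℂ) = Nat.card G := by
  rw [cod_eq, chKer_eq_bot h, Subgroup.card_bot, one_mul]
  exact Nat.div_mul_cancel (charDegree_dvd_card χ)

theorem cod_one : cod (one G) = 1 := by
  have h : chKer (one G) = ⊤ := by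
    rw [eq_top_iff]
    intro g _
    rw [mem_chKer]
    rfl
  rw [cod_eq, h, Subgroup.card_top, charDegree_one, mul_one, Nat.div_self Nat.card_pos]

theorem one_lt_cod [IsSimpleGroup G] {χ : IrrCharacter G} (h : χ ≠ one G) : 1 < cod χ := by
  have h1 := cod_mul h
  have h2 := charDegree_sq_lt χ
  have h3 := charDegree_pos χ
  by_contra h4
  have h5 : cod χ ≤ 1 := not_lt.1 h4
  have h6 : Nat.card G ≤ charDegree (χ : G → ℂ) := by
    rw [← h1]
    calc cod χ * charDegree (χ : G → ℂ) ≤ 1 * charDegree (χ : G → ℂ) := Nat.mul_le_mul_right _ h5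
      _ = charDegree (χ : G → ℂ) := one_mul _
  nlinarith

theorem eq_one_of_cod [IsSimpleGroup G] {χ : IrrCharacter G} (h : cod χ = 1) : χ = one G := by
  by_contra hne
  exact (one_lt_cod hne).ne' h

theorem charDegree_infl (N : Subgroup G) [N.Normal] (ψ : IrrCharacter (G ⧸ N)) :
    charDegree (infl N ψ : G → ℂ) = charDegree (ψ : G ⧸ N → ℂ) := by
  have h1 : (infl N ψ : G → ℂ) 1 = (ψ : G ⧸ N → ℂ) 1 := infl_apply N ψ 1
  unfold charDegree
  rw [h1]

/-- Codegrees are invariant under inflation. -/
theorem cod_infl (N : Subgroup G) [N.Normal] (ψ : IrrCharacter (G ⧸ N)) :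
    cod (infl N ψ) = cod ψ := by
  have hker : chKer (infl N ψ) = (chKer ψ).comap (QuotientGroup.mk' N) := by
    ext g
    rw [mem_chKer, Subgroup.mem_comap, mem_chKer, infl_apply, infl_apply]
    rfl
  have hcard : Nat.card (chKer (infl N ψ)) = Nat.card N * Nat.card (chKer ψ) := by
    have h1 : (chKer (infl N ψ)).index = (chKer ψ).index := by
      rw [hker, Subgroup.index_comap_of_surjective _ (QuotientGroup.mk'_surjective N)]
    have h2 := (chKer (infl N ψ)).card_mul_index
    have h3 := (chKer ψ).card_mul_index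
    have h4 := Subgroup.card_eq_card_quotient_mul_card_subgroup N
    rw [h1] at h2
    have h5 : 0 < (chKer ψ).index := Nat.pos_of_ne_zero Subgroup.index_ne_zero_of_finite
    apply Nat.eq_of_mul_eq_mul_right h5
    rw [h2, h4, ← h3]
    ring
  rw [cod_eq, cod_eq, charDegree_infl, hcard, Subgroup.card_eq_card_quotient_mul_card_subgroup N,
    mul_comm (Nat.card (G ⧸ N)), mul_assoc]
  exact Nat.mul_div_mul_left _ _ Nat.card_pos

/-- Sum of squares of the nonprincipal degrees. -/
theorem sum_sq_ne [Fintype (IrrCharacter G)] [DecidableEq (IrrCharacter G)] :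
    ∑ χ ∈ Finset.univ.erase (one G), charDegree (χ : G → ℂ) ^ 2 + 1 = Nat.card G := by
  have h := sum_deg_sq (G := G)
  rw [← Finset.sum_erase_add _ _ (Finset.mem_univ (one G)), charDegree_one, one_pow] at h
  exact h

/-- Some nonprincipal irreducible character has degree prime to a given prime divisor of the
order. -/
theorem exists_not_dvd {p : ℕ} (hp : p.Prime) (hpG : p ∣ Nat.card G) :
    ∃ χ : IrrCharacter G, χ ≠ one G ∧ ¬ p ∣ charDegree (χ : G → ℂ) := by
  classical
  have := Characters.Core.finite_irr (G := G)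
  let _ := Fintype.ofFinite (IrrCharacter G)
  by_contra hcon
  push Not at hcon
  have h := sum_sq_ne (G := G)
  have h1 : p ∣ ∑ χ ∈ Finset.univ.erase (one G), charDegree (χ : G → ℂ) ^ 2 := by
    apply Finset.dvd_sum
    intro χ hχ
    exact dvd_pow (hcon χ (Finset.ne_of_mem_erase hχ)) two_ne_zero
  have h2 : p ∣ 1 := by
    rw [← h] at hpG
    exact (Nat.dvd_add_right h1).1 hpG
  exact hp.one_lt.ne' (Nat.dvd_one.1 h2)

/-- If every codegree of the simple group `H` is a codegree of `S`, also simple, then `|H|` divides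
`|S|`. -/
theorem card_dvd {H : Type u} [Group H] [Finite H] [IsSimpleGroup H] {S : Type v} [Group S]
    [Finite S] [IsSimpleGroup S] (h : ∀ ψ : IrrCharacter H, ∃ χ : IrrCharacter S, cod ψ = cod χ) :
    Nat.card H ∣ Nat.card S := by
  rw [← Nat.factorization_le_iff_dvd Nat.card_pos.ne' Nat.card_pos.ne']
  intro p
  by_cases hp : p.Prime
  swap
  · rw [Nat.factorization_eq_zero_of_not_prime _ hp]; exact Nat.zero_le _
  by_cases hpH : p ∣ Nat.card H
  swap
  · rw [Nat.factorization_eq_zero_of_not_dvd hpH]; exact Nat.zero_le _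
  obtain ⟨ψ, hψ1, hψ⟩ := exists_not_dvd hp hpH
  obtain ⟨χ, hχ⟩ := h ψ
  have h1 := cod_mul hψ1
  have hχ1 : χ ≠ one S := by
    rintro rfl
    rw [cod_one] at hχ
    exact (one_lt_cod hψ1).ne' hχ
  have h2 := cod_mul hχ1
  have h3 : (Nat.card H).factorization p = (cod ψ).factorization p := by
    rw [← h1, Nat.factorization_mul (by rintro h0; rw [h0] at h1; simp at h1; exact Nat.card_pos.ne h1)
      (charDegree_pos ψ).ne']
    simp [Nat.factorization_eq_zero_of_not_dvd hψ]
  rw [h3, hχ]
  exact (Nat.factorization_le_iff_dvd (by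
    rintro h0; rw [h0] at h2; simp at h2; exact Nat.card_pos.ne h2) Nat.card_pos.ne').2
    ⟨_, h2.symm⟩ p

/-- The key counting argument: an injection of the irreducible characters of the simple group `H`
into those of the simple group `S` preserving codegrees is a bijection, the groups have the same
order, and degrees are preserved. -/
theorem key {H : Type u} [Group H] [Finite H] [IsSimpleGroup H] {S : Type v} [Group S]
    [Finite S] [IsSimpleGroup S] (hS : 3 ≤ Nat.card S) (hH : 3 ≤ Nat.card H)
    (j : IrrCharacter H → IrrCharacter S) (hj : Function.Injective j)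
    (h : ∀ ψ : IrrCharacter H, cod ψ = cod (j ψ)) :
    Nat.card H = Nat.card S ∧ Function.Surjective j ∧
      ∀ ψ : IrrCharacter H, charDegree (ψ : H → ℂ) = charDegree (j ψ : S → ℂ) := by
  classical
  have := Characters.Core.finite_irr (G := H)
  let _ := Fintype.ofFinite (IrrCharacter H)
  have := Characters.Core.finite_irr (G := S)
  let _ := Fintype.ofFinite (IrrCharacter S)
  have hdvd : Nat.card H ∣ Nat.card S := card_dvd fun ψ => ⟨j ψ, h ψ⟩
  have hle : Nat.card H ≤ Nat.card S := Nat.le_of_dvd Nat.card_pos hdvd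
  have hj1 : j (one H) = one S := by
    apply eq_one_of_cod
    rw [← h, cod_one]
  have hjne : ∀ ψ : IrrCharacter H, ψ ≠ one H → j ψ ≠ one S := fun ψ hψ h1 =>
    hψ (hj (h1.trans hj1.symm))
  have hmul : ∀ ψ : IrrCharacter H, ψ ≠ one H →
      Nat.card H * charDegree (j ψ : S → ℂ) = Nat.card S * charDegree (ψ : H → ℂ) := by
    intro ψ hψ
    rw [← cod_mul hψ, ← cod_mul (hjne ψ hψ), h ψ]
    ring
  have hsumH := sum_sq_ne (G := H)
  have hsumS := sum_sq_ne (G := S)
  have himg : ∑ ψ ∈ Finset.univ.erase (one H), charDegree (j ψ : S → ℂ) ^ 2 ≤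
      ∑ χ ∈ Finset.univ.erase (one S), charDegree (χ : S → ℂ) ^ 2 := by
    rw [← Finset.sum_image (s := Finset.univ.erase (one H)) (g := j)
      (f := fun χ : IrrCharacter S => charDegree (χ : S → ℂ) ^ 2)
      (fun a _ b _ hab => hj hab)]
    apply Finset.sum_le_sum_of_subset
    intro χ hχ
    obtain ⟨ψ, hψ, rfl⟩ := Finset.mem_image.1 hχ
    exact Finset.mem_erase.2 ⟨hjne ψ (Finset.ne_of_mem_erase hψ), Finset.mem_univ _⟩
  have hsq : Nat.card H ^ 2 * ∑ ψ ∈ Finset.univ.erase (one H), charDegree (j ψ : S → ℂ) ^ 2 =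
      Nat.card S ^ 2 * ∑ ψ ∈ Finset.univ.erase (one H), charDegree (ψ : H → ℂ) ^ 2 := by
    rw [Finset.mul_sum, Finset.mul_sum]
    apply Finset.sum_congr rfl
    intro ψ hψ
    rw [← mul_pow, ← mul_pow, hmul ψ (Finset.ne_of_mem_erase hψ)]
  set a := ∑ ψ ∈ Finset.univ.erase (one H), charDegree (ψ : H → ℂ) ^ 2 with ha
  set b := ∑ ψ ∈ Finset.univ.erase (one H), charDegree (j ψ : S → ℂ) ^ 2 with hb
  set c := ∑ χ ∈ Finset.univ.erase (one S), charDegree (χ : S → ℂ) ^ 2 with hc
  have hge : Nat.card S ≤ Nat.card H := by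
    by_contra hlt
    push Not at hlt
    set s := Nat.card S with hs
    set t := Nat.card H with ht
    have e1 : t ^ 2 * b = s ^ 2 * a := hsq
    have e2 : a = t - 1 := by omega
    have e3 : b ≤ s - 1 := by omega
    have e4 : s ^ 2 * (t - 1) ≤ t ^ 2 * (s - 1) := by
      rw [← e2, ← e1]
      exact Nat.mul_le_mul_left _ e3
    obtain ⟨t', ht'⟩ : ∃ t', t = t' + 1 := ⟨t - 1, by omega⟩
    obtain ⟨s', hs'⟩ : ∃ s', s = s' + 1 := ⟨s - 1, by omega⟩
    rw [hs', ht'] at e4 hlt
    rw [hs'] at hS
    rw [ht'] at hH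
    simp only [Nat.add_sub_cancel] at e4
    have e5 : t' + 1 ≤ s' := by omega
    nlinarith [mul_le_mul e5 e5 (Nat.zero_le _) (Nat.zero_le _), mul_pos (show 0 < t' by omega)
      (show 0 < s' by omega)]
  have heq : Nat.card H = Nat.card S := le_antisymm hle hge
  have hdeg : ∀ ψ : IrrCharacter H, charDegree (ψ : H → ℂ) = charDegree (j ψ : S → ℂ) := by
    intro ψ
    by_cases hψ : ψ = one H
    · rw [hψ, hj1, charDegree_one, charDegree_one]
    · have h1 := hmul ψ hψ
      rw [heq] at h1
      exact (Nat.eq_of_mul_eq_mul_left Nat.card_pos h1).symm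
  refine ⟨heq, ?_, hdeg⟩
  -- surjectivity
  by_contra hsurj
  unfold Function.Surjective at hsurj
  push Not at hsurj
  obtain ⟨χ, hχ⟩ := hsurj
  have hχ1 : χ ≠ one S := fun h1 => hχ (one H) (hj1.trans h1.symm)
  have hlt : b < c := by
    have himg2 : ∑ ψ ∈ Finset.univ.erase (one H), charDegree (j ψ : S → ℂ) ^ 2 +
        charDegree (χ : S → ℂ) ^ 2 ≤
        ∑ χ ∈ Finset.univ.erase (one S), charDegree (χ : S → ℂ) ^ 2 := by
      rw [← Finset.sum_image (s := Finset.univ.erase (one H)) (g := j)
        (f := fun χ : IrrCharacter S => charDegree (χ : S → ℂ) ^ 2)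
        (fun a _ b _ hab => hj hab)]
      have hnot : χ ∉ Finset.image j (Finset.univ.erase (one H)) := by
        intro hmem
        obtain ⟨ψ, _, hψ⟩ := Finset.mem_image.1 hmem
        exact hχ ψ hψ
      rw [add_comm, ← Finset.sum_insert (f := fun χ : IrrCharacter S =>
        charDegree (χ : S → ℂ) ^ 2) hnot]
      apply Finset.sum_le_sum_of_subset
      intro φ hφ
      rcases Finset.mem_insert.1 hφ with rfl | hφ
      · exact Finset.mem_erase.2 ⟨hχ1, Finset.mem_univ _⟩
      · obtain ⟨ψ, hψ, rfl⟩ := Finset.mem_image.1 hφ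
        exact Finset.mem_erase.2 ⟨hjne ψ (Finset.ne_of_mem_erase hψ), Finset.mem_univ _⟩
    have := charDegree_pos χ
    have h2 : 0 < charDegree (χ : S → ℂ) ^ 2 := by positivity
    omega
  have hab : b = a := by
    rw [heq] at hsq
    exact Nat.eq_of_mul_eq_mul_left (by positivity) hsq
  omega

end Cfsg.Agent.H677.CodMultiset
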