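import Mathlib
import Cfsg.Prelude.Def_Blocks
import Cfsg.Agent.H686.CharKit
import Cfsg.Agent.H677.CodMultiset
import Cfsg.Agent.Characters.Linear
import Cfsg.Agent.S0157

/-!
# Degrees and abelian subgroups whose nontrivial elements are all conjugate

* `charDegree_ge`: if `A` is an abelian subgroup of order `m` whose nonidentity elements are all
  conjugate in `G`, every irreducible character of `G` whose kernel does not contain `A` has degree
  at least `m - 1`;
* `psl_ge`: the nonprincipal irreducible characters of `PSL₃(q)` have degree at least `q² - 1`;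
* `alt_eight`: the alternating group of degree `n ≥ 4` has an irreducible character of degree
  `n - 1`.
-/

set_option autoImplicit false

namespace Cfsg.Agent.H677.FusedDeg

open Cfsg Cfsg.Agent.H686.CharKit Cfsg.Agent.H677.CodMultiset
open scoped ComplexConjugate MatrixGroups

universe u

theorem charDegree_ge {G : Type u} [Group G] [Finite G] (A : Subgroup G)
    (hcomm : ∀ a ∈ A, ∀ b ∈ A, a * b = b * a)
    (hconj : ∀ a ∈ A, ∀ b ∈ A, a ≠ 1 → b ≠ 1 → IsConj a b) (χ : IrrCharacter G)
    (hχ : ¬ A ≤ chKer χ) : Nat.card A - 1 ≤ charDegree (χ : G → ℂ) := by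
  classical
  let _ := Fintype.ofFinite G
  let _ := Fintype.ofFinite A
  obtain ⟨t, htA, ht⟩ := SetLike.not_le_iff_exists.1 hχ
  have ht1 : t ≠ 1 := by rintro rfl; exact ht (Subgroup.one_mem _)
  set c := (χ : G → ℂ) t with hc
  have hct : c ≠ (χ : G → ℂ) 1 := fun h => ht (mem_chKer.2 h)
  have hcl := Characters.Core.isIrr_isClassFunction χ.2
  have hval : ∀ a ∈ A, a ≠ 1 → (χ : G → ℂ) a = c := by
    intro a ha ha1
    obtain ⟨g, hg⟩ := isConj_iff.1 (hconj t htA a ha ht1 ha1)
    rw [← hg, (Characters.Core.isClassFunction_def.1 hcl) t g]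
  -- a nontrivial linear character of `A`
  have hA1 : 1 < Nat.card A := by
    rw [Finite.one_lt_card_iff_nontrivial]
    exact ⟨⟨⟨t, htA⟩, 1, fun h => ht1 (congrArg Subtype.val h)⟩⟩
  have hcommA : commutator A = ⊥ := by
    rw [commutator_eq_closure, Subgroup.closure_eq_bot_iff]
    rintro _ ⟨a, b, rfl⟩
    rw [Set.mem_singleton_iff, commutatorElement_eq_one_iff_mul_comm]
    exact Subtype.ext (hcomm a a.2 b b.2)
  have hcardhom := Characters.Linear.card_hom_eq_index_commutator A
  rw [hcommA, Subgroup.index_bot] at hcardhom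
  have hnt : Nontrivial (A →* ℂˣ) := by
    have : Finite (A →* ℂˣ) := Nat.finite_of_card_ne_zero (by rw [hcardhom]; omega)
    rw [← Finite.one_lt_card_iff_nontrivial, hcardhom]
    exact hA1
  obtain ⟨lam, hlam⟩ := exists_ne (1 : A →* ℂˣ)
  have hlamirr := Characters.Linear.isIrrCharacter_hom lam
  have hres : IsCharacter A (fun a : A => (χ : G → ℂ) a) :=
    Characters.Clifford.isCharacter_restrict A (Characters.Core.isIrr_isCharacter χ.2)
  obtain ⟨b, hb⟩ := Characters.Core.classInner_isNat hres
    (Characters.Core.isIrr_isCharacter hlamirr)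
  obtain ⟨a', ha'⟩ := Characters.Core.classInner_isNat hres
    (Characters.Core.isCharacter_one (G := A))
  have hm0 : (Nat.card A : ℂ) ≠ 0 := Characters.Core.card_ne_zero_complex
  -- compute the inner products
  have hsplit : ∀ φ : A → ℂ, ∑ a : A, (χ : G → ℂ) a * φ a =
      ((χ : G → ℂ) 1 - c) * φ 1 + c * ∑ a : A, φ a := by
    intro φ
    have h1 : ∀ a : A, (χ : G → ℂ) a * φ a =
        (if a = 1 then ((χ : G → ℂ) 1 - c) * φ 1 else 0) + c * φ a := by
      intro a
      by_cases h : a = 1
      · subst h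
        rw [if_pos rfl]
        change (χ : G → ℂ) 1 * φ 1 = _
        ring
      · rw [if_neg h, hval a a.2 (fun h' => h (Subtype.ext h')), zero_add]
    rw [Finset.sum_congr rfl (fun a _ => h1 a), Finset.sum_add_distrib, Finset.sum_ite_eq',
      if_pos (Finset.mem_univ _), ← Finset.mul_sum]
  have hsumlam : ∑ a : A, conj ((lam a : ℂˣ) : ℂ) = 0 := by
    have h1 := Characters.Core.classInner_irr_ne (Characters.Core.isIrr_one (G := A)) hlamirr
      (fun h => hlam (by
        ext a
        have := congrFun h a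
        simpa using this.symm))
    rw [Characters.Core.classInner_def] at h1
    have h2 := (mul_eq_zero.1 h1).resolve_left (inv_ne_zero hm0)
    rw [← h2]
    exact Finset.sum_congr rfl fun a _ => by simp
  have e1 : (Nat.card A : ℂ) * b = (χ : G → ℂ) 1 - c := by
    rw [← hb, Characters.Core.classInner_def, ← mul_assoc, mul_inv_cancel₀ hm0, one_mul,
      hsplit (fun a => conj ((lam a : ℂˣ) : ℂ)), hsumlam, mul_zero, add_zero, map_one]
    simp
  have e2 : (Nat.card A : ℂ) * a' = (χ : G → ℂ) 1 - c + c * Nat.card A := by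
    rw [← ha', Characters.Core.classInner_def, ← mul_assoc, mul_inv_cancel₀ hm0, one_mul,
      hsplit (fun a => conj ((1 : A → ℂ) a))]
    simp [Nat.card_eq_fintype_card]
  have hb0 : b ≠ 0 := by
    rintro rfl
    apply hct
    rw [Nat.cast_zero, mul_zero] at e1
    exact (sub_eq_zero.1 e1.symm).symm
  have e3 : (charDegree (χ : G → ℂ) : ℂ) = a' + ((Nat.card A : ℂ) - 1) * b := by
    rw [charDegree_irr]
    apply mul_left_cancel₀ hm0
    have : (Nat.card A : ℂ) * (a' + ((Nat.card A : ℂ) - 1) * b) =
        (Nat.card A : ℂ) * a' + ((Nat.card A : ℂ) - 1) * ((Nat.card A : ℂ) * b) := by ring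
    rw [this, e1, e2]
    ring
  have e4 : charDegree (χ : G → ℂ) = a' + (Nat.card A - 1) * b := by
    have h1 : ((a' + (Nat.card A - 1) * b : ℕ) : ℂ) = a' + ((Nat.card A : ℂ) - 1) * b := by
      push_cast [Nat.cast_sub hA1.le]
      ring
    rw [← h1] at e3
    exact_mod_cast e3
  rw [e4]
  have : Nat.card A - 1 ≤ (Nat.card A - 1) * b := Nat.le_mul_of_pos_right _ (Nat.pos_of_ne_zero hb0)
  omega

/-! ### The alternating groups -/

/-- The alternating group of degree `n ≥ 4` has an irreducible character of degree `n - 1`. -/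
theorem alt_deg {n : ℕ} (hn : 4 ≤ n) :
    ∃ χ : IrrCharacter (alternatingGroup (Fin n)), charDegree (χ : alternatingGroup (Fin n) → ℂ) = n - 1 := by
  have h2 : MulAction.IsMultiplyPretransitive (alternatingGroup (Fin n)) (Fin n) 2 := by
    have h := alternatingGroup.isMultiplyPretransitive (α := Fin n)
    rw [Nat.card_fin] at h
    exact MulAction.isMultiplyPretransitive_of_le (n := n - 2) (by omega) (by simp)
  have h1 : MulAction.IsPretransitive (alternatingGroup (Fin n)) (Fin n) := by
    rw [← MulAction.is_one_pretransitive_iff]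
    exact MulAction.isMultiplyPretransitive_of_le (n := 2) (by omega) (by simp; omega)
  have hirr := (S0157.result (G := alternatingGroup (Fin n)) (Fin n) (by simp; omega)).2 h2
  refine ⟨⟨_, hirr⟩, ?_⟩
  have hfix : Nat.card (MulAction.fixedBy (Fin n) (1 : alternatingGroup (Fin n))) = n := by
    rw [MulAction.fixedBy_one_eq_univ, Nat.card_univ, Nat.card_fin]
  have h3 : ((⟨_, hirr⟩ : IrrCharacter (alternatingGroup (Fin n))) :
      alternatingGroup (Fin n) → ℂ) 1 = ((n - 1 : ℕ) : ℂ) := by
    change (Nat.card (MulAction.fixedBy (Fin n) (1 : alternatingGroup (Fin n))) : ℂ) - 1 = _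
    rw [hfix, Nat.cast_sub (by omega)]
    simp
  have h4 := charDegree_irr (⟨_, hirr⟩ : IrrCharacter (alternatingGroup (Fin n)))
  rw [h3] at h4
  exact_mod_cast h4

end Cfsg.Agent.H677.FusedDeg
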