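import Mathlib
import Cfsg.Prelude.Def_Blocks
import Cfsg.Prelude.Def_Classical
import Cfsg.Agent.AutOrth.Main
import Cfsg.Agent.H677.OmegaDeg
import Cfsg.Agent.H677.CodMultiset

/-!
# Lower bound for the degrees of the irreducible characters of the simple orthogonal groups

* `charDegree_ge`: a nonprincipal irreducible character of a group isomorphic to `POmega F Q`,
  `Q` nondegenerate of Witt index at least two in dimension `N`, has degree at least
  `|F| ^ (N - 4)`;
* `charDegree_ge_odd`: the special case `POmega F (quadFormOdd m F)`: at least `|F| ^ (2 m - 3)`.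
-/

set_option autoImplicit false

namespace Cfsg.Agent.H677.OmegaIrr

open Cfsg.Agent.LieClassical.OrthCore Cfsg.Agent.LieClassical.OrthTrans
open QuadraticMap Module
open Cfsg Cfsg.Agent.H686.CharKit Cfsg.Agent.H677.CodMultiset Cfsg.Agent.H677.OmegaDeg

universe u

/-- Lower bound for the degrees of the nonprincipal irreducible characters of a quotient of
`E Q`. -/
theorem charDegree_ge_of_surjective {F V : Type*} [Field F] [AddCommGroup V] [Module F V]
    {Q : QuadraticForm F V} [Finite F] [FiniteDimensional F V] (hG : Good Q) {K : Type u} [Group K]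
    [Finite K] (f : E Q →* K) (hf : Function.Surjective f) (χ : IrrCharacter K)
    (hχ : χ ≠ one K) :
    Nat.card F ^ (Module.finrank F V - 4) ≤ charDegree (χ : K → ℂ) := by
  obtain ⟨χ, n, ρ, hρ, rfl⟩ := χ
  have h1 : ρ.character 1 = (Module.finrank ℂ (Fin n → ℂ) : ℂ) := Representation.char_one ρ
  have h2 : charDegree ρ.character = Module.finrank ℂ (Fin n → ℂ) := by
    unfold charDegree
    rw [h1]
    simp
  change _ ≤ charDegree ρ.character
  rw [h2]
  let σ : Representation ℂ (E Q) (Fin n → ℂ) := ρ.comp f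
  apply finrank_ge hG σ
  by_contra hcon
  push Not at hcon
  apply hχ
  apply eq_one_of_chKer
  rw [eq_top_iff]
  intro g _
  obtain ⟨x, rfl⟩ := hf g
  rw [mem_chKer]
  change ρ.character (f x) = ρ.character 1
  have h3 : ρ (f x) = 1 := hcon x
  have h4 : ρ (f x) = ρ 1 := by rw [h3, map_one]
  exact congrArg (LinearMap.trace ℂ (Fin n → ℂ)) h4

variable {F : Type} [Field F] [Finite F]

theorem charDegree_ge {ι : Type} [Fintype ι] [DecidableEq ι] {Q : QuadraticForm F (ι → F)}
    (hG : Good Q) {K : Type u} [Group K] [Finite K] (e : K ≃* Cfsg.POmega F ⇑Q)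
    (χ : IrrCharacter K) (hχ : χ ≠ one K) :
    Nat.card F ^ (Fintype.card ι - 4) ≤ charDegree (χ : K → ℂ) := by
  let f : E Q →* K := (e.symm.toMonoidHom.comp (AutOrth.Main.pe hG).symm.toMonoidHom).comp
    (QuotientGroup.mk' _)
  have hf : Function.Surjective f :=
    (e.symm.surjective.comp (AutOrth.Main.pe hG).symm.surjective).comp
      (QuotientGroup.mk'_surjective _)
  have h := charDegree_ge_of_surjective hG f hf χ hχ
  rwa [Module.finrank_fintype_fun_eq_card] at h

theorem charDegree_ge_odd {m : ℕ} (hm : 2 ≤ m) (h2 : (2 : F) ≠ 0) {K : Type u} [Group K]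
    [Finite K] (e : K ≃* Cfsg.POmega F (Cfsg.quadFormOdd m F)) (χ : IrrCharacter K)
    (hχ : χ ≠ one K) : Nat.card F ^ (2 * m - 3) ≤ charDegree (χ : K → ℂ) := by
  revert e
  rw [← LieClassical.QuadForms.coe_oddForm]
  intro e
  have h := charDegree_ge (AutOrth.Main.good_odd hm h2) e χ hχ
  have h3 : Fintype.card (Unit ⊕ (Fin m ⊕ Fin m)) - 4 = 2 * m - 3 := by
    simp
    omega
  rwa [h3] at h

end Cfsg.Agent.H677.OmegaIrr
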