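import Mathlib
import Cfsg.Prelude.Def_Spor_J3

/-!
# The Janko group `J₃` does not depend on the field with four elements and the root `ω`
-/

set_option autoImplicit false

namespace Cfsg.Agent.H677.J3Field

open Cfsg Cfsg.Spor

variable {F F' : Type} [Field F] [Field F']

theorem omegaPow_map (φ : F ≃+* F') (ω : F) (n : ZMod 3) :
    omegaPow F' (φ ω) n = φ (omegaPow F ω n) := by
  rw [omegaPow, omegaPow, map_pow]

theorem j3A_map (φ : F ≃+* F') (ω : F) (Z : F9) : j3A F' (φ ω) Z = (j3A F ω Z).map φ := by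
  rw [j3A, j3A, Matrix.diagonal_map (map_zero φ)]
  congr 1
  funext z
  exact omegaPow_map φ ω _

theorem j3E_map (φ : F ≃+* F') (ω : F) (Z : F9) : j3E F' (φ ω) Z = (j3E F ω Z).map φ := by
  rw [j3E, j3E, Matrix.diagonal_map (map_zero φ)]
  congr 1
  funext z
  exact omegaPow_map φ ω _

theorem j3Lam_map (φ : F ≃+* F') (ω : F) (Z z : F9) :
    j3Lam F' (φ ω) Z z = φ (j3Lam F ω Z z) := by
  rw [j3Lam, j3Lam]
  split_ifs
  · rw [map_one]
  · rfl
  · rw [map_pow]
  · rw [map_one]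

theorem j3D_map (φ : F ≃+* F') (ω : F) (Z : F9) : j3D F' (φ ω) Z = (j3D F ω Z).map φ := by
  ext w z
  rw [j3D, j3D, Matrix.map_apply, Matrix.of_apply, Matrix.of_apply, apply_ite φ, map_zero,
    j3Lam_map]

theorem j3B_map (φ : F ≃+* F') (Z : F9) : j3B F' Z = (j3B F Z).map φ := by
  ext w z
  rw [j3B, j3B, Matrix.map_apply, Matrix.of_apply, Matrix.of_apply, apply_ite φ, map_zero,
    map_one]

theorem j3C_map (φ : F ≃+* F') (Z : F9) : j3C F' Z = (j3C F Z).map φ := by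
  ext w z
  rw [j3C, j3C, Matrix.map_apply, Matrix.of_apply, Matrix.of_apply, apply_ite φ, apply_ite φ,
    apply_ite φ, map_zero, map_one]

theorem gens_map (φ : F ≃+* F') (ω : F) {M : Matrix F9 F9 F} :
    M.map φ ∈ j3Gens F' (φ ω) ↔ M ∈ j3Gens F ω := by
  have hinj : Function.Injective (fun M : Matrix F9 F9 F => M.map φ) :=
    Matrix.map_injective φ.injective
  unfold j3Gens
  simp only [Set.mem_union, Set.mem_range, Set.mem_ofPred_eq]
  constructor
  · rintro ((((⟨Z, h⟩ | ⟨Z, h⟩) | ⟨Z, h⟩) | ⟨Z, hZ, h⟩) | ⟨Z, hZ, h⟩)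
    · exact Or.inl (Or.inl (Or.inl (Or.inl ⟨Z, hinj ((j3A_map φ ω Z).symm.trans h)⟩)))
    · exact Or.inl (Or.inl (Or.inl (Or.inr ⟨Z, hinj ((j3E_map φ ω Z).symm.trans h)⟩)))
    · exact Or.inl (Or.inl (Or.inr ⟨Z, hinj ((j3D_map φ ω Z).symm.trans h)⟩))
    · exact Or.inl (Or.inr ⟨Z, hZ, hinj (h.trans (j3B_map φ Z))⟩)
    · exact Or.inr ⟨Z, hZ, hinj (h.trans (j3C_map φ Z))⟩
  · rintro ((((⟨Z, rfl⟩ | ⟨Z, rfl⟩) | ⟨Z, rfl⟩) | ⟨Z, hZ, rfl⟩) | ⟨Z, hZ, rfl⟩)
    · exact Or.inl (Or.inl (Or.inl (Or.inl ⟨Z, j3A_map φ ω Z⟩)))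
    · exact Or.inl (Or.inl (Or.inl (Or.inr ⟨Z, j3E_map φ ω Z⟩)))
    · exact Or.inl (Or.inl (Or.inr ⟨Z, j3D_map φ ω Z⟩))
    · exact Or.inl (Or.inr ⟨Z, hZ, (j3B_map φ Z).symm⟩)
    · exact Or.inr ⟨Z, hZ, (j3C_map φ Z).symm⟩

/-- The isomorphism of the general linear groups. -/
noncomputable def glMap (φ : F ≃+* F') : GL F9 F ≃* GL F9 F' :=
  Units.mapEquiv (RingEquiv.mapMatrix (m := F9) φ).toMulEquiv

theorem coe_glMap (φ : F ≃+* F') (g : GL F9 F) :
    (glMap φ g : Matrix F9 F9 F') = (g : Matrix F9 F9 F).map φ := rfl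

theorem threeJ3_map (φ : F ≃+* F') (ω : F) :
    (threeJ3 F ω).map (glMap φ).toMonoidHom = threeJ3 F' (φ ω) := by
  rw [threeJ3, threeJ3, MonoidHom.map_closure]
  congr 1
  ext g
  constructor
  · rintro ⟨h, hh, rfl⟩
    change ((glMap φ h : GL F9 F') : Matrix F9 F9 F') ∈ j3Gens F' (φ ω)
    rw [coe_glMap, gens_map]
    exact hh
  · intro hg
    obtain ⟨h, rfl⟩ := (glMap φ).surjective g
    refine ⟨h, ?_, rfl⟩
    have hg' : ((glMap φ h : GL F9 F') : Matrix F9 F9 F') ∈ j3Gens F' (φ ω) := hg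
    rw [coe_glMap, gens_map] at hg'
    exact hg'

/-- The isomorphism of the triple covers. -/
noncomputable def coverEquiv (φ : F ≃+* F') (ω : F) : threeJ3 F ω ≃* threeJ3 F' (φ ω) :=
  ((glMap φ).subgroupMap (threeJ3 F ω)).trans (MulEquiv.subgroupCongr (threeJ3_map φ ω))

theorem center_map {A B : Type*} [Group A] [Group B] (e : A ≃* B) :
    (Subgroup.center A).map (e : A →* B) = Subgroup.center B := by
  ext b
  constructor
  · rintro ⟨a, ha, rfl⟩
    rw [Subgroup.mem_center_iff]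
    intro c
    obtain ⟨d, rfl⟩ := e.surjective c
    change e d * e a = e a * e d
    rw [← map_mul, ← map_mul]
    exact congrArg e (Subgroup.mem_center_iff.1 ha d)
  · intro hb
    refine ⟨e.symm b, ?_, e.apply_symm_apply b⟩
    change e.symm b ∈ Subgroup.center A
    rw [Subgroup.mem_center_iff]
    intro c
    apply e.injective
    rw [map_mul, map_mul, e.apply_symm_apply]
    exact Subgroup.mem_center_iff.1 hb _

/-- Transport along a field isomorphism. -/
noncomputable def j3Equiv (φ : F ≃+* F') (ω : F) : J3 F ω ≃* J3 F' (φ ω) :=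
  QuotientGroup.congr _ _ (coverEquiv φ ω) (center_map _)

/-- All choices give isomorphic groups. -/
theorem j3_unique [Fintype F] [Fintype F'] {ω : F} {ω' : F'} (hF : Fintype.card F = 4) (hF' : Fintype.card F' = 4)
    (hω : ω ^ 2 + ω + 1 = 0) (hω' : ω' ^ 2 + ω' + 1 = 0) : Nonempty (J3 F ω ≃* J3 F' ω') := by
  let φ : F ≃+* F' := FiniteField.ringEquivOfCardEq (by rw [hF, hF'])
  have h1 : (φ ω) ^ 2 + φ ω + 1 = 0 := by
    rw [← map_pow, ← map_add, ← map_one φ, ← map_add, hω, map_zero]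
  have h2 : (φ ω - ω') * (φ ω + ω' + 1) = 0 := by
    linear_combination h1 - hω'
  rcases mul_eq_zero.1 h2 with h | h
  · have h3 : φ ω = ω' := sub_eq_zero.1 h
    rw [← h3]
    exact ⟨j3Equiv φ ω⟩
  · have hc : CharP F' 2 := by
      obtain ⟨p, hp⟩ := CharP.exists F'
      have hp0 : p.Prime := CharP.char_is_prime F' p
      have := Fact.mk hp0
      obtain ⟨n, hn, hcard⟩ := FiniteField.card F' p
      rw [hF'] at hcard
      have hd : p ∣ 4 := by
        rw [hcard]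
        exact dvd_pow_self p n.ne_zero
      have h22 : p ∣ 2 ^ 2 := by simpa using hd
      have h3 : p = 2 := (Nat.prime_dvd_prime_iff_eq hp0 Nat.prime_two).1 (hp0.dvd_of_dvd_pow h22)
      rw [← h3]
      exact hp
    have := Fact.mk Nat.prime_two
    let ψ : F ≃+* F' := φ.trans (frobeniusEquiv F' 2)
    have h3 : ψ ω = ω' := by
      change frobeniusEquiv F' 2 (φ ω) = ω'
      rw [frobeniusEquiv_apply, frobenius_def]
      have h4 : φ ω = -ω' - 1 := by linear_combination h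
      rw [h4]
      have h5 : (2 : F') = 0 := CharP.cast_eq_zero F' 2
      linear_combination hω'
    rw [← h3]
    exact ⟨j3Equiv ψ ω⟩

/-- Two groups isomorphic to `J₃` are isomorphic. -/
theorem isoJ3_unique {G H : Type*} [Group G] [Group H] (hG : IsoJ3 G) (hH : IsoJ3 H) :
    Nonempty (G ≃* H) := by
  obtain ⟨F, _, _, ω, hF, hω, ⟨e⟩⟩ := hG
  obtain ⟨F', _, _, ω', hF', hω', ⟨e'⟩⟩ := hH
  obtain ⟨j⟩ := j3_unique hF hF' hω hω'
  exact ⟨(e.trans j).trans e'.symm⟩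

end Cfsg.Agent.H677.J3Field
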