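import Mathlib

/-!
# The Weil representation from abstract Heisenberg data

`HData V X`: operators `D v` (`v : V`), as complex matrices over the finite index type `X`, with
`D v * D w = e v w • D (v + w)`, with scalar commutant, and a parity operator `P`.

If a group `G` acts on `V` preserving `e`, then `W g = ∑ v, D (g • v) * D (-v)` intertwines
`D v` and `D (g • v)`, and there is a canonical normalisation `om g = (R g)⁻¹ • W g`
(`R g` the quotient of the determinants on the even and on the odd part) for which `om` is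
multiplicative.

* `om_mul`, `om_one`: `om` is a homomorphism;
* `om_comm_P`: it commutes with `P`;
* `normSq_trace_om`: `|tr (om g)|²` is the number of fixed points of `g` on `V`;
* `om_neg`: an element acting as `-1` on `V` is mapped to `P` or `-P`.
-/

set_option autoImplicit false

namespace Cfsg.Agent.H677.WeilCore

open Matrix
open scoped ComplexConjugate ComplexOrder

/-- Abstract Heisenberg data. -/
structure HData (V X : Type*) [AddCommGroup V] [Fintype V] [Fintype X] [DecidableEq X] where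
  D : V → Matrix X X ℂ
  e : V → V → ℂ
  P : Matrix X X ℂ
  D_mul : ∀ v w, D v * D w = e v w • D (v + w)
  D_zero : D 0 = 1
  e_add_left : ∀ u v w, e (u + v) w = e u w * e v w
  e_add_right : ∀ u v w, e u (v + w) = e u v * e u w
  e_self : ∀ v, e v v = 1
  star_D : ∀ v, (D v)ᴴ = D (-v)
  trace_D : ∀ v, v ≠ 0 → (D v).trace = 0
  comm : ∀ A : Matrix X X ℂ, (∀ v, A * D v = D v * A) → ∃ c : ℂ, A = c • (1 : Matrix X X ℂ)
  P_sq : P * P = 1
  star_P : Pᴴ = P
  P_D : ∀ v, P * D v = D (-v) * P
  trace_P : P.trace = 1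
  card_V : Fintype.card V = Fintype.card X ^ 2
  det_P : ∀ c : ℂ, (c • ((1 / 2 : ℂ) • (1 + P)) + (1 / 2 : ℂ) • (1 - P)).det =
    c * (c • ((1 / 2 : ℂ) • (1 - P)) + (1 / 2 : ℂ) • (1 + P)).det

namespace HData

variable {V X : Type*} [AddCommGroup V] [Fintype V] [Fintype X] [DecidableEq X]
  (H : HData V X)

theorem e_zero_left (w : V) : H.e 0 w = 1 := by
  have h1 := H.e_add_left 0 0 w
  rw [add_zero] at h1
  have h2 : H.e 0 w ≠ 0 := by
    intro h0
    have h3 := H.e_add_left w (-w) w
    have h4 := H.e_add_left 0 (w) w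
    rw [h0, zero_mul, zero_add, H.e_self] at h4
    exact one_ne_zero h4
  exact (mul_left_cancel₀ h2 (by rw [mul_one]; exact h1)).symm

theorem e_zero_right (w : V) : H.e w 0 = 1 := by
  have h1 := H.e_add_right w 0 0
  rw [add_zero] at h1
  have h2 : H.e w 0 ≠ 0 := by
    intro h0
    have h4 := H.e_add_right w 0 w
    rw [h0, zero_mul, zero_add, H.e_self] at h4
    exact one_ne_zero h4
  exact (mul_left_cancel₀ h2 (by rw [mul_one]; exact h1)).symm

theorem e_neg_left (v w : V) : H.e (-v) w * H.e v w = 1 := by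
  rw [← H.e_add_left, neg_add_cancel, e_zero_left]

theorem e_neg_right (v w : V) : H.e v (-w) * H.e v w = 1 := by
  rw [← H.e_add_right, neg_add_cancel, e_zero_right]

theorem e_ne_zero (v w : V) : H.e v w ≠ 0 := fun h => by
  have := H.e_neg_left v w
  rw [h, mul_zero] at this
  exact zero_ne_one this

theorem e_symm (v w : V) : H.e v w * H.e w v = 1 := by
  have h := H.e_self (v + w)
  rw [H.e_add_left, H.e_add_right, H.e_add_right, H.e_self, H.e_self, one_mul, mul_one] at h
  exact h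

theorem D_mul_neg (v : V) : H.D v * H.D (-v) = 1 := by
  rw [H.D_mul, add_neg_cancel, H.D_zero]
  have h := H.e_neg_right v v
  rw [H.e_self, mul_one] at h
  rw [h, one_smul]

theorem D_neg_mul (v : V) : H.D (-v) * H.D v = 1 := by
  have h := H.D_mul_neg (-v)
  rwa [neg_neg] at h

/-- Conjugation. -/
theorem D_conj (v w : V) : H.D v * H.D w * H.D (-v) = (H.e v w * H.e v w) • H.D w := by
  rw [H.D_mul, smul_mul_assoc, H.D_mul, smul_smul]
  congr 1
  · rw [H.e_add_left]
    have h1 := H.e_neg_right v v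
    have h2 := H.e_neg_right w v
    have h3 := H.e_symm v w
    rw [H.e_self, mul_one] at h1
    rw [h1, one_mul]
    have h4 : H.e w (-v) = H.e v w := by
      have h5 := H.e_ne_zero w v
      apply mul_right_cancel₀ h5
      rw [h2, h3]
    rw [h4]
  · congr 1
    abel

variable {G : Type*} [Group G] [DistribMulAction G V]

/-- The intertwiner. -/
noncomputable def W (g : G) : Matrix X X ℂ := ∑ v : V, H.D (g • v) * H.D (-v)

variable {H}

theorem W_mul_D (he : ∀ (g : G) (v w : V), H.e (g • v) (g • w) = H.e v w) (g : G) (w : V) :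
    H.W g * H.D w = H.D (g • w) * H.W g := by
  have h1 : H.D (g • w) * H.W g = ∑ v : V, (H.e w v) • (H.D (g • (w + v)) * H.D (-v)) := by
    rw [W, Finset.mul_sum]
    refine Finset.sum_congr rfl fun v _ => ?_
    rw [← mul_assoc, H.D_mul, he, smul_mul_assoc, smul_add]
  have h2 : H.W g * H.D w = ∑ v : V, (H.e w (v - w)) • (H.D (g • v) * H.D (-(v - w))) := by
    rw [W, Finset.sum_mul]
    refine Finset.sum_congr rfl fun v _ => ?_
    rw [mul_assoc, H.D_mul, mul_smul_comm]
    have e1 : -v + w = -(v - w) := by abel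
    rw [e1]
    congr 1
    have e2 : H.e w (v - w) = H.e w v := by
      rw [sub_eq_add_neg, H.e_add_right]
      have := H.e_neg_right w w
      rw [H.e_self, mul_one] at this
      rw [this, mul_one]
    have e3 := H.e_neg_left v w
    have e4 := H.e_symm v w
    rw [e2]
    apply mul_right_cancel₀ (H.e_ne_zero v w)
    rw [e3, mul_comm, e4]
  rw [h1, h2]
  exact Fintype.sum_equiv (Equiv.subRight w) _ _ (fun v => by
    simp only [Equiv.subRight_apply, add_sub_cancel])

theorem star_W (g : G) : (H.W g)ᴴ = ∑ v : V, H.D v * H.D (-(g • v)) := by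
  rw [W, conjTranspose_sum]
  refine Finset.sum_congr rfl fun v _ => ?_
  rw [conjTranspose_mul, H.star_D, H.star_D, neg_neg]

theorem trace_D_mul_D [DecidableEq V] (v w : V) : (H.D v * H.D (-w)).trace =
    if v = w then (Fintype.card X : ℂ) else 0 := by
  by_cases h : v = w
  · subst h
    rw [H.D_mul_neg, if_pos rfl, Matrix.trace_one]
  · rw [H.D_mul, Matrix.trace_smul, H.trace_D _ (fun h' => h (by
      rw [← sub_eq_zero, sub_eq_add_neg]; exact h')), smul_zero, if_neg h]

/-- Number of fixed points. -/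
noncomputable def fix (V : Type*) [AddCommGroup V] {G : Type*} [Group G] [DistribMulAction G V]
    (g : G) : ℕ := Nat.card {v : V // g • v = v}

theorem trace_W (g : G) : (H.W g).trace = (Fintype.card X : ℂ) * fix V g := by
  classical
  rw [W, Matrix.trace_sum, Finset.sum_congr rfl (fun v _ => trace_D_mul_D (H := H) (g • v) v),
    ← Finset.sum_filter, Finset.sum_const, nsmul_eq_mul, mul_comm, fix,
    Nat.card_eq_fintype_card, Fintype.card_subtype]

theorem fix_pos (g : G) : 0 < fix V g := by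
  have : Nonempty {v : V // g • v = v} := ⟨⟨0, smul_zero g⟩⟩
  exact Nat.card_pos

omit [DecidableEq X] in
theorem card_X_ne [Nonempty X] : (Fintype.card X : ℂ) ≠ 0 := by
  exact_mod_cast Fintype.card_ne_zero

theorem W_ne_zero [Nonempty X] (g : G) : H.W g ≠ 0 := by
  intro h
  have h1 := trace_W (H := H) g
  rw [h, Matrix.trace_zero] at h1
  have h2 : (fix V g : ℂ) ≠ 0 := by exact_mod_cast (fix_pos (V := V) g).ne'
  exact mul_ne_zero card_X_ne h2 h1.symm

theorem star_W_mul_D (he : ∀ (g : G) (v w : V), H.e (g • v) (g • w) = H.e v w) (g : G) (w : V) :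
    (H.W g)ᴴ * H.D (g • w) = H.D w * (H.W g)ᴴ := by
  have h := congrArg conjTranspose (W_mul_D he g (-w))
  rw [conjTranspose_mul, conjTranspose_mul, H.star_D, H.star_D, neg_neg, smul_neg, neg_neg] at h
  exact h.symm

/-- `W g` is unitary up to a scalar. -/
theorem exists_scalar [Nonempty X] (he : ∀ (g : G) (v w : V), H.e (g • v) (g • w) = H.e v w)
    (g : G) : ∃ c : ℂ, c ≠ 0 ∧ (H.W g)ᴴ * H.W g = c • 1 := by
  obtain ⟨c, hc⟩ := H.comm ((H.W g)ᴴ * H.W g) fun v => by
    rw [mul_assoc, W_mul_D he, ← mul_assoc, star_W_mul_D he, mul_assoc]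
  refine ⟨c, ?_, hc⟩
  rintro rfl
  rw [zero_smul, conjTranspose_mul_self_eq_zero] at hc
  exact W_ne_zero g hc

/-- The scalar of `exists_scalar`. -/
theorem star_W_mul_W [Nonempty X] (he : ∀ (g : G) (v w : V), H.e (g • v) (g • w) = H.e v w)
    (g : G) : (H.W g)ᴴ * H.W g = ((Fintype.card V : ℂ) * fix V g) • 1 := by
  classical
  obtain ⟨c, _, hc⟩ := exists_scalar he g
  have h1 : ((H.W g)ᴴ * H.W g).trace = c * Fintype.card X := by
    rw [hc, Matrix.trace_smul, Matrix.trace_one, smul_eq_mul]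
  have h2 : ((H.W g)ᴴ * H.W g).trace =
      ∑ w : V, ∑ v : V, (H.D w * H.D (-(g • w)) * (H.D (g • v) * H.D (-v))).trace := by
    rw [star_W, W, Finset.sum_mul, Matrix.trace_sum]
    refine Finset.sum_congr rfl fun w _ => ?_
    rw [Finset.mul_sum, Matrix.trace_sum]
  have h3 : ∀ w v : V, (H.D w * H.D (-(g • w)) * (H.D (g • v) * H.D (-v))).trace =
      if g • (v - w) = v - w then (Fintype.card X : ℂ) else 0 := by
    intro w v
    have e1 : H.D w * H.D (-(g • w)) * (H.D (g • v) * H.D (-v)) =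
        H.D w * (H.D (-(g • w)) * H.D (g • v)) * H.D (-v) := by
      simp only [mul_assoc]
    rw [e1, H.D_mul (-(g • w)), mul_smul_comm, smul_mul_assoc, Matrix.trace_smul, H.D_mul w,
      smul_mul_assoc, Matrix.trace_smul, trace_D_mul_D]
    have hiff : (w + (-(g • w) + g • v) = v) ↔ g • (v - w) = v - w := by
      rw [smul_sub]
      constructor
      · intro h
        rw [← sub_eq_zero] at h ⊢
        rw [← h]; abel
      · intro h
        rw [← sub_eq_zero] at h ⊢
        rw [← h]; abel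
    by_cases h : g • (v - w) = v - w
    · rw [if_pos h, if_pos (hiff.2 h)]
      have e2 : -(g • w) + g • v = v - w := by
        rw [← h, smul_sub]; abel
      have e3 : g • v = g • w + (v - w) := by
        rw [← e2]; abel
      have e4 : H.e (-(g • w)) (g • v) * H.e w (v - w) = 1 := by
        rw [e3, H.e_add_right]
        have e5 := H.e_neg_left (g • w) (g • w)
        rw [H.e_self, mul_one] at e5
        rw [e5, one_mul]
        have e6 : H.e w (v - w) = H.e (g • w) (v - w) := by
          rw [← he g w (v - w), h]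
        rw [e6, H.e_neg_left]
      rw [e2]
      rw [smul_eq_mul, smul_eq_mul, ← mul_assoc, e4, one_mul]
    · rw [if_neg h, if_neg (fun h' => h (hiff.1 h')), smul_zero, smul_zero]
  have h4 : ((H.W g)ᴴ * H.W g).trace =
      (Fintype.card V : ℂ) * ((Fintype.card X : ℂ) * fix V g) := by
    rw [h2]
    have h5 : ∀ w : V, ∑ v : V, (H.D w * H.D (-(g • w)) * (H.D (g • v) * H.D (-v))).trace =
        (Fintype.card X : ℂ) * fix V g := by
      intro w
      have h6 := Fintype.sum_equiv (Equiv.subRight w)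
        (fun v => if g • (v - w) = v - w then (Fintype.card X : ℂ) else 0)
        (fun v => if g • v = v then (Fintype.card X : ℂ) else 0) (fun v => rfl)
      rw [Finset.sum_congr rfl (fun v _ => h3 w v), h6, ← Finset.sum_filter, Finset.sum_const, nsmul_eq_mul, mul_comm, fix,
        Nat.card_eq_fintype_card, Fintype.card_subtype]
    rw [Finset.sum_congr rfl (fun w _ => h5 w), Finset.sum_const, Finset.card_univ, nsmul_eq_mul]
  rw [hc]
  congr 1
  apply mul_right_cancel₀ (card_X_ne (X := X))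
  rw [← h1, h4]
  ring

theorem P_conj_W (g : G) : H.P * H.W g = H.W g * H.P := by
  have hPD : ∀ v, H.P * H.D v * H.P = H.D (-v) := fun v => by
    rw [H.P_D, mul_assoc, H.P_sq, mul_one]
  have h1 : H.P * H.W g * H.P = H.W g := by
    rw [W, Finset.mul_sum, Finset.sum_mul]
    have h2 : ∀ v : V, H.P * (H.D (g • v) * H.D (-v)) * H.P =
        H.D (g • (-v)) * H.D (- -v) := by
      intro v
      calc H.P * (H.D (g • v) * H.D (-v)) * H.P
          = H.P * H.D (g • v) * (H.P * H.P) * H.D (-v) * H.P := by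
            rw [H.P_sq, mul_one]; simp only [mul_assoc]
        _ = (H.P * H.D (g • v) * H.P) * (H.P * H.D (-v) * H.P) := by simp only [mul_assoc]
        _ = H.D (g • (-v)) * H.D (- -v) := by rw [hPD, hPD, smul_neg]
    rw [Finset.sum_congr rfl (fun v _ => h2 v)]
    exact Fintype.sum_equiv (Equiv.neg V) _ _ (fun v => by simp)
  calc H.P * H.W g = H.P * H.W g * (H.P * H.P) := by rw [H.P_sq, mul_one]
    _ = (H.P * H.W g * H.P) * H.P := by simp only [mul_assoc]
    _ = H.W g * H.P := by rw [h1]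

/-! ### The normalisation -/

variable (H) in
/-- The projection to the even part. -/
noncomputable def Pp : Matrix X X ℂ := (1 / 2 : ℂ) • (1 + H.P)

variable (H) in
/-- The projection to the odd part. -/
noncomputable def Pm : Matrix X X ℂ := (1 / 2 : ℂ) • (1 - H.P)

theorem Pp_add_Pm : H.Pp + H.Pm = 1 := by
  rw [Pp, Pm, ← smul_add]
  have : (1 + H.P + (1 - H.P)) = (2 : ℂ) • (1 : Matrix X X ℂ) := by
    rw [two_smul]; abel
  rw [this, smul_smul]
  norm_num

theorem Pp_mul_Pm : H.Pp * H.Pm = 0 := by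
  rw [Pp, Pm, smul_mul_smul_comm]
  have : (1 + H.P) * (1 - H.P) = 0 := by
    rw [add_mul, mul_sub, mul_sub, H.P_sq, one_mul, mul_one, one_mul]; abel
  rw [this, smul_zero]

theorem Pm_mul_Pp : H.Pm * H.Pp = 0 := by
  rw [Pp, Pm, smul_mul_smul_comm]
  have : (1 - H.P) * (1 + H.P) = 0 := by
    rw [sub_mul, mul_add, mul_add, H.P_sq, one_mul, mul_one, one_mul]; abel
  rw [this, smul_zero]

theorem Pp_mul_Pp : H.Pp * H.Pp = H.Pp := by
  have h := congrArg (H.Pp * ·) (Pp_add_Pm (H := H))
  simp only [mul_add, Pp_mul_Pm, add_zero, mul_one] at h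
  exact h

theorem Pm_mul_Pm : H.Pm * H.Pm = H.Pm := by
  have h := congrArg (H.Pm * ·) (Pp_add_Pm (H := H))
  simp only [mul_add, Pm_mul_Pp, zero_add, mul_one] at h
  exact h

theorem star_Pp : (H.Pp)ᴴ = H.Pp := by
  rw [Pp, conjTranspose_smul, conjTranspose_add, conjTranspose_one, H.star_P]
  simp

theorem star_Pm : (H.Pm)ᴴ = H.Pm := by
  rw [Pm, conjTranspose_smul, conjTranspose_sub, conjTranspose_one, H.star_P]
  simp

theorem Pp_comm {A : Matrix X X ℂ} (hA : H.P * A = A * H.P) : H.Pp * A = A * H.Pp := by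
  rw [Pp, smul_mul_assoc, mul_smul_comm, add_mul, mul_add, hA, one_mul, mul_one]

theorem Pm_comm {A : Matrix X X ℂ} (hA : H.P * A = A * H.P) : H.Pm * A = A * H.Pm := by
  rw [Pm, smul_mul_assoc, mul_smul_comm, sub_mul, mul_sub, hA, one_mul, mul_one]

variable (H) in
/-- Determinant on the even part. -/
noncomputable def dp (A : Matrix X X ℂ) : ℂ := (A * H.Pp + H.Pm).det

variable (H) in
/-- Determinant on the odd part. -/
noncomputable def dm (A : Matrix X X ℂ) : ℂ := (A * H.Pm + H.Pp).det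

theorem dp_mul {A B : Matrix X X ℂ} (hB : H.P * B = B * H.P) :
    H.dp (A * B) = H.dp A * H.dp B := by
  rw [dp, dp, dp, ← Matrix.det_mul]
  congr 1
  rw [add_mul, mul_add, mul_add]
  have e1 : A * H.Pp * (B * H.Pp) = A * B * H.Pp := by
    calc A * H.Pp * (B * H.Pp) = A * (H.Pp * B) * H.Pp := by simp only [mul_assoc]
      _ = A * B * (H.Pp * H.Pp) := by rw [Pp_comm hB]; simp only [mul_assoc]
      _ = A * B * H.Pp := by rw [Pp_mul_Pp]
  have e2 : A * H.Pp * H.Pm = 0 := by rw [mul_assoc, Pp_mul_Pm, mul_zero]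
  have e3 : H.Pm * (B * H.Pp) = 0 := by
    rw [← mul_assoc, Pm_comm hB, mul_assoc, Pm_mul_Pp, mul_zero]
  rw [e1, e2, e3, Pm_mul_Pm, add_zero, zero_add]

theorem dm_mul {A B : Matrix X X ℂ} (hB : H.P * B = B * H.P) :
    H.dm (A * B) = H.dm A * H.dm B := by
  rw [dm, dm, dm, ← Matrix.det_mul]
  congr 1
  rw [add_mul, mul_add, mul_add]
  have e1 : A * H.Pm * (B * H.Pm) = A * B * H.Pm := by
    calc A * H.Pm * (B * H.Pm) = A * (H.Pm * B) * H.Pm := by simp only [mul_assoc]
      _ = A * B * (H.Pm * H.Pm) := by rw [Pm_comm hB]; simp only [mul_assoc]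
      _ = A * B * H.Pm := by rw [Pm_mul_Pm]
  have e2 : A * H.Pm * H.Pp = 0 := by rw [mul_assoc, Pm_mul_Pp, mul_zero]
  have e3 : H.Pp * (B * H.Pm) = 0 := by
    rw [← mul_assoc, Pp_comm hB, mul_assoc, Pp_mul_Pm, mul_zero]
  rw [e1, e2, e3, Pp_mul_Pp, add_zero, zero_add]

theorem dp_one : H.dp 1 = 1 := by rw [dp, one_mul, Pp_add_Pm, Matrix.det_one]

theorem dm_one : H.dm 1 = 1 := by rw [dm, one_mul, add_comm, Pp_add_Pm, Matrix.det_one]

theorem P_comm_smul_one (c : ℂ) : H.P * (c • (1 : Matrix X X ℂ)) = (c • 1) * H.P := by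
  rw [mul_smul_comm, smul_mul_assoc, mul_one, one_mul]

theorem dp_smul_one (c : ℂ) : H.dp (c • 1) = c * H.dm (c • 1) := by
  rw [dp, dm, smul_mul_assoc, smul_mul_assoc, one_mul, one_mul]
  exact H.det_P c

theorem dm_smul_one_ne {c : ℂ} (hc : c ≠ 0) : H.dm (c • 1) ≠ 0 := by
  intro h
  have h1 : H.dm ((c • 1) * (c⁻¹ • 1)) = 1 := by
    rw [smul_mul_smul_comm, mul_inv_cancel₀ hc, one_smul, one_mul, dm_one]
  rw [dm_mul (P_comm_smul_one _), h, zero_mul] at h1
  exact zero_ne_one h1

variable (H) in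
/-- The normalising factor. -/
noncomputable def R (A : Matrix X X ℂ) : ℂ := H.dp A / H.dm A

theorem R_mul {A B : Matrix X X ℂ} (hB : H.P * B = B * H.P) : H.R (A * B) = H.R A * H.R B := by
  rw [R, R, R, dp_mul hB, dm_mul hB, mul_div_mul_comm]

theorem R_smul_one {c : ℂ} (hc : c ≠ 0) : H.R (c • 1) = c := by
  rw [R, dp_smul_one, mul_div_cancel_right₀ _ (dm_smul_one_ne hc)]

theorem R_one : H.R 1 = 1 := by rw [R, dp_one, dm_one, div_one]

theorem R_smul {c : ℂ} (hc : c ≠ 0) {A : Matrix X X ℂ} (hA : H.P * A = A * H.P) :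
    H.R (c • A) = c * H.R A := by
  have h : c • A = (c • 1) * A := by rw [smul_mul_assoc, one_mul]
  rw [h, R_mul hA, R_smul_one hc]

theorem P_comm_star {A : Matrix X X ℂ} (hA : H.P * A = A * H.P) : H.P * Aᴴ = Aᴴ * H.P := by
  have h := congrArg conjTranspose hA
  rw [conjTranspose_mul, conjTranspose_mul, H.star_P] at h
  exact h.symm

theorem R_star {A : Matrix X X ℂ} (hA : H.P * A = A * H.P) : H.R Aᴴ = conj (H.R A) := by
  have h1 : H.dp Aᴴ = conj (H.dp A) := by
    rw [dp, dp, starRingEnd_apply, ← Matrix.det_conjTranspose, conjTranspose_add,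
      conjTranspose_mul, star_Pp, star_Pm, Pp_comm (P_comm_star hA)]
  have h2 : H.dm Aᴴ = conj (H.dm A) := by
    rw [dm, dm, starRingEnd_apply, ← Matrix.det_conjTranspose, conjTranspose_add,
      conjTranspose_mul, star_Pp, star_Pm, Pm_comm (P_comm_star hA)]
  rw [R, R, h1, h2, map_div₀]

variable (H) in
/-- The Weil representation. -/
noncomputable def om (g : G) : Matrix X X ℂ := (H.R (H.W g))⁻¹ • H.W g

variable [Nonempty X]

theorem lam_ne (g : G) : ((Fintype.card V : ℂ) * fix V g) ≠ 0 := by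
  have h1 : (fix V g : ℂ) ≠ 0 := by exact_mod_cast (fix_pos (V := V) g).ne'
  have h2 : (Fintype.card V : ℂ) ≠ 0 := by exact_mod_cast Fintype.card_ne_zero
  exact mul_ne_zero h2 h1

theorem W_mul_star_W (he : ∀ (g : G) (v w : V), H.e (g • v) (g • w) = H.e v w)
    (g : G) : H.W g * (H.W g)ᴴ = ((Fintype.card V : ℂ) * fix V g) • 1 := by
  set l := ((Fintype.card V : ℂ) * fix V g) with hl
  have hl0 : l ≠ 0 := lam_ne g
  have h1 : (l⁻¹ • (H.W g)ᴴ) * H.W g = 1 := by
    rw [smul_mul_assoc, star_W_mul_W he, ← hl, smul_smul, inv_mul_cancel₀ hl0, one_smul]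
  have h2 := mul_eq_one_comm.1 h1
  rw [mul_smul_comm] at h2
  rw [← h2, smul_smul, mul_inv_cancel₀ hl0, one_smul]

theorem R_W_mul (he : ∀ (g : G) (v w : V), H.e (g • v) (g • w) = H.e v w) (g : G) :
    conj (H.R (H.W g)) * H.R (H.W g) = (Fintype.card V : ℂ) * fix V g := by
  rw [← R_star (P_conj_W g), ← R_mul (P_conj_W g), star_W_mul_W he, R_smul_one (lam_ne g)]

theorem R_W_ne (he : ∀ (g : G) (v w : V), H.e (g • v) (g • w) = H.e v w) (g : G) :
    H.R (H.W g) ≠ 0 := by
  intro h
  have h1 := R_W_mul he g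
  rw [h, mul_zero] at h1
  exact lam_ne g h1.symm

/-- The projective relation. -/
theorem exists_cocycle (he : ∀ (g : G) (v w : V), H.e (g • v) (g • w) = H.e v w) (g h : G) :
    ∃ c : ℂ, c ≠ 0 ∧ H.W g * H.W h = c • H.W (g * h) := by
  obtain ⟨m, hm⟩ := H.comm ((H.W (g * h))ᴴ * (H.W g * H.W h)) fun v => by
    rw [mul_assoc, mul_assoc (H.W g), W_mul_D he, ← mul_assoc (H.W g), W_mul_D he, smul_smul,
      mul_assoc (H.D _), ← mul_assoc _ (H.D _), star_W_mul_D he, mul_assoc]
  set l := ((Fintype.card V : ℂ) * fix V (g * h)) with hl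
  have hl0 : l ≠ 0 := lam_ne (g * h)
  have h1 : l • (H.W g * H.W h) = m • H.W (g * h) := by
    have h2 := congrArg (H.W (g * h) * ·) hm
    simp only [mul_smul_comm, mul_one] at h2
    rw [← h2, ← mul_assoc, W_mul_star_W he, ← hl, smul_mul_assoc, one_mul]
  have h3 : H.W g * H.W h = (l⁻¹ * m) • H.W (g * h) := by
    rw [mul_smul, ← h1, smul_smul, inv_mul_cancel₀ hl0, one_smul]
  refine ⟨l⁻¹ * m, ?_, h3⟩
  intro h0
  rw [h0, zero_smul] at h3
  -- `W g` is invertible
  have h4 := congrArg ((H.W g)ᴴ * ·) h3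
  simp only [mul_zero, ← mul_assoc, star_W_mul_W he, smul_mul_assoc, one_mul] at h4
  exact W_ne_zero h ((smul_eq_zero.1 h4).resolve_left (lam_ne g))

theorem om_mul (he : ∀ (g : G) (v w : V), H.e (g • v) (g • w) = H.e v w) (g h : G) :
    H.om (g * h) = H.om g * H.om h := by
  obtain ⟨c, hc, h1⟩ := exists_cocycle he g h
  have h2 : H.R (H.W g) * H.R (H.W h) = c * H.R (H.W (g * h)) := by
    rw [← R_mul (P_conj_W h), h1, R_smul hc (P_conj_W _)]
  rw [om, om, om, smul_mul_smul_comm, h1, smul_smul]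
  congr 1
  have h3 := R_W_ne he g
  have h4 := R_W_ne he h
  have h5 := R_W_ne he (g * h)
  field_simp
  rw [h2, mul_comm]

theorem om_one (he : ∀ (g : G) (v w : V), H.e (g • v) (g • w) = H.e v w) :
    H.om (1 : G) = 1 := by
  have h1 := om_mul he (1 : G) 1
  rw [mul_one] at h1
  -- `om 1` is invertible
  have hR := R_W_ne he (1 : G)
  have h2 : (((Fintype.card V : ℂ) * fix V (1 : G))⁻¹ • H.R (H.W (1 : G)) • (H.W (1 : G))ᴴ) *
      H.om (1 : G) = 1 := by
    rw [om, smul_mul_assoc, smul_mul_assoc, mul_smul_comm, star_W_mul_W he, smul_smul, smul_smul,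
      smul_smul]
    have h5 := lam_ne (V := V) (1 : G)
    have h6 : ((Fintype.card V : ℂ) * fix V (1 : G))⁻¹ * H.R (H.W (1 : G)) *
        (H.R (H.W (1 : G)))⁻¹ * ((Fintype.card V : ℂ) * fix V (1 : G)) = 1 := by
      rw [mul_assoc _ (H.R _), mul_inv_cancel₀ hR, mul_one, inv_mul_cancel₀ h5]
    rw [h6, one_smul]
  have h3 := congrArg
    ((((Fintype.card V : ℂ) * fix V (1 : G))⁻¹ • H.R (H.W (1 : G)) • (H.W (1 : G))ᴴ) * ·) h1
  simp only [← mul_assoc, h2, one_mul] at h3
  exact h3.symm

omit [Nonempty X] in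
theorem om_comm_P (g : G) : H.P * H.om g = H.om g * H.P := by
  rw [om, mul_smul_comm, smul_mul_assoc, P_conj_W]

/-- **The character of the Weil representation**. -/
theorem trace_om (he : ∀ (g : G) (v w : V), H.e (g • v) (g • w) = H.e v w) (g : G) :
    (H.om g).trace * conj ((H.om g).trace) = fix V g := by
  have h1 := R_W_mul he g
  have hR := R_W_ne he g
  have hRc : conj (H.R (H.W g)) ≠ 0 := (map_ne_zero _).2 hR
  rw [om, Matrix.trace_smul, trace_W, smul_eq_mul, map_mul, map_inv₀, map_mul, map_natCast,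
    map_natCast]
  have h2 : (H.R (H.W g))⁻¹ * ((Fintype.card X : ℂ) * fix V g) *
      ((conj (H.R (H.W g)))⁻¹ * ((Fintype.card X : ℂ) * fix V g)) =
      (conj (H.R (H.W g)) * H.R (H.W g))⁻¹ * ((Fintype.card X : ℂ) ^ 2 * (fix V g : ℂ) ^ 2) := by
    rw [mul_inv]
    ring
  have h3 : (Fintype.card V : ℂ) = (Fintype.card X : ℂ) ^ 2 := by
    rw [H.card_V]; push_cast; rfl
  rw [h2, h1, h3]
  have h4 : (fix V g : ℂ) ≠ 0 := by exact_mod_cast (fix_pos (V := V) g).ne'
  have h5 := card_X_ne (X := X)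
  field_simp

/-- An element acting as `-1` is mapped to `± P`. -/
theorem om_neg (he : ∀ (g : G) (v w : V), H.e (g • v) (g • w) = H.e v w) {z : G}
    (hz : ∀ v : V, z • v = -v) (hz2 : z * z = 1) : H.om z = H.P ∨ H.om z = -H.P := by
  have h0 : ∀ v, H.om z * H.D v = H.D (-v) * H.om z := by
    intro v
    rw [om, smul_mul_assoc, W_mul_D he, hz, mul_smul_comm]
  obtain ⟨c, hc⟩ := H.comm (H.P * H.om z) fun v => by
    rw [mul_assoc, h0, ← mul_assoc, H.P_D, neg_neg, mul_assoc]
  have h1 : H.om z = c • H.P := by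
    have h2 := congrArg (H.P * ·) hc
    simp only [← mul_assoc, H.P_sq, one_mul, mul_smul_comm, mul_one] at h2
    exact h2
  have h3 : (c * c) • (1 : Matrix X X ℂ) = 1 := by
    have h4 := om_mul he z z
    rw [hz2, om_one he, h1, smul_mul_smul_comm, H.P_sq] at h4
    exact h4.symm
  have h5 : c * c = 1 := by
    have h6 := congrArg Matrix.trace h3
    rw [Matrix.trace_smul, Matrix.trace_one, smul_eq_mul] at h6
    exact mul_right_cancel₀ (card_X_ne (X := X)) (by rw [h6, one_mul])
  rcases mul_self_eq_one_iff.1 h5 with h | h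
  · left; rw [h1, h, one_smul]
  · right; rw [h1, h, neg_smul, one_smul]

end HData

end Cfsg.Agent.H677.WeilCore
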