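import Mathlib
import Cfsg.Prelude.Def_Blocks
import Cfsg.Agent.H677.WeilCore
import Cfsg.Agent.Characters.Core

/-!
# The two Weil characters from abstract Heisenberg data

`fp g = tr (om g * Pp)` and `fm g = tr (om g * Pm)` are characters of degrees `(N + 1) / 2` and
`(N - 1) / 2`, `N = |X|`; they are irreducible when the group is transitive on the nonzero elements
of `V`.
-/

set_option autoImplicit false

namespace Cfsg.Agent.H677.WeilChar

open Matrix Cfsg Cfsg.Agent.H677.WeilCore Cfsg.Agent.H677.WeilCore.HData
open scoped ComplexConjugate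

universe u

variable {V X : Type*} [AddCommGroup V] [Fintype V] [Fintype X] [DecidableEq X] [Nonempty X]
  {H : HData V X} {G : Type u} [Group G] [DistribMulAction G V]

/-- The representation on the range of an idempotent commuting with `om`. -/
noncomputable def subRep (he : ∀ (g : G) (v w : V), H.e (g • v) (g • w) = H.e v w)
    (A : Matrix X X ℂ) (hA : ∀ g : G, A * H.om g = H.om g * A) :
    Representation ℂ G (LinearMap.range (toLin' A)) where
  toFun g := (toLin' (H.om g)).restrict (p := LinearMap.range (toLin' A))
    (q := LinearMap.range (toLin' A)) (by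
      rintro _ ⟨x, rfl⟩
      refine ⟨toLin' (H.om g) x, ?_⟩
      rw [← LinearMap.comp_apply, ← LinearMap.comp_apply, ← toLin'_mul, ← toLin'_mul, hA])
  map_one' := by
    ext x
    simp [om_one he]
  map_mul' g h := by
    apply LinearMap.ext
    intro x
    apply Subtype.ext
    change toLin' (H.om (g * h)) (x : X → ℂ) = toLin' (H.om g) (toLin' (H.om h) (x : X → ℂ))
    rw [om_mul he, toLin'_mul, LinearMap.comp_apply]

theorem trace_subRep (he : ∀ (g : G) (v w : V), H.e (g • v) (g • w) = H.e v w)
    (A : Matrix X X ℂ) (hA : ∀ g : G, A * H.om g = H.om g * A) (hAA : A * A = A) (g : G) :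
    (subRep he A hA).character g = (H.om g * A).trace := by
  rw [Representation.character, ← Matrix.trace_toLin'_eq]
  have hf : ∀ x, toLin' (H.om g * A) x ∈ LinearMap.range (toLin' A) := by
    intro x
    rw [← hA, toLin'_mul]
    exact ⟨_, rfl⟩
  rw [← LinearMap.trace_restrict_eq_of_forall_mem (LinearMap.range (toLin' A))
    (toLin' (H.om g * A)) hf]
  congr 1
  apply LinearMap.ext
  rintro ⟨_, ⟨x, rfl⟩⟩
  apply Subtype.ext
  change toLin' (H.om g) (toLin' A x) = toLin' (H.om g * A) (toLin' A x)
  rw [toLin'_mul, LinearMap.comp_apply, ← LinearMap.comp_apply (toLin' A) (toLin' A),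
    ← toLin'_mul, hAA]

variable (H) in
/-- The even Weil character. -/
noncomputable def fp (g : G) : ℂ := (H.om g * H.Pp).trace

variable (H) in
/-- The odd Weil character. -/
noncomputable def fm (g : G) : ℂ := (H.om g * H.Pm).trace

omit [Nonempty X] in
theorem fp_add_fm (g : G) : fp H g + fm H g = (H.om g).trace := by
  rw [fp, fm, ← Matrix.trace_add, ← mul_add, Pp_add_Pm, mul_one]

theorem isCharacter_fp (he : ∀ (g : G) (v w : V), H.e (g • v) (g • w) = H.e v w) :
    IsCharacter G (fp H : G → ℂ) := by
  have h := Characters.Core.isCharacter_of_rep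
    (subRep he H.Pp (fun g : G => Pp_comm (om_comm_P g)))
  have h2 : (subRep he H.Pp (fun g : G => Pp_comm (om_comm_P g))).character = fp H := by
    funext g
    exact trace_subRep he _ _ Pp_mul_Pp g
  rwa [h2] at h

theorem isCharacter_fm (he : ∀ (g : G) (v w : V), H.e (g • v) (g • w) = H.e v w) :
    IsCharacter G (fm H : G → ℂ) := by
  have h := Characters.Core.isCharacter_of_rep
    (subRep he H.Pm (fun g : G => Pm_comm (om_comm_P g)))
  have h2 : (subRep he H.Pm (fun g : G => Pm_comm (om_comm_P g))).character = fm H := by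
    funext g
    exact trace_subRep he _ _ Pm_mul_Pm g
  rwa [h2] at h

theorem fp_one (he : ∀ (g : G) (v w : V), H.e (g • v) (g • w) = H.e v w) :
    fp H (1 : G) = (Fintype.card X + 1) / 2 := by
  rw [fp, om_one he, one_mul, Pp, Matrix.trace_smul, Matrix.trace_add, Matrix.trace_one,
    H.trace_P, smul_eq_mul]
  ring

theorem fm_one (he : ∀ (g : G) (v w : V), H.e (g • v) (g • w) = H.e v w) :
    fm H (1 : G) = (Fintype.card X - 1) / 2 := by
  rw [fm, om_one he, one_mul, Pm, Matrix.trace_smul, Matrix.trace_sub, Matrix.trace_one,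
    H.trace_P, smul_eq_mul]
  ring

omit [Nonempty X] [Fintype X] [DecidableEq X] in
/-- Burnside counting for a group with two orbits. -/
theorem sum_fix [Fintype G] (hV : ∃ v : V, v ≠ 0)
    (htr : ∀ v w : V, v ≠ 0 → w ≠ 0 → ∃ g : G, g • v = w) :
    ∑ g : G, fix V g = 2 * Fintype.card G := by
  classical
  have h := MulAction.sum_card_fixedBy_eq_card_orbits_mul_card_group G V
  have h1 : Fintype.card (Quotient (MulAction.orbitRel G V)) = 2 := by
    rw [← Fintype.card_bool]
    let f : Quotient (MulAction.orbitRel G V) → Bool := Quotient.lift (fun v => decide (v = 0)) (by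
      intro a b hab
      obtain ⟨g, hg⟩ := MulAction.orbitRel_apply.1 hab
      change g • b = a at hg
      have : a = 0 ↔ b = 0 := by
        rw [← hg]
        exact smul_eq_zero_iff_eq g
      simp [this])
    apply Fintype.card_of_bijective (f := f)
    constructor
    · rintro ⟨a⟩ ⟨b⟩ hab
      change decide (a = 0) = decide (b = 0) at hab
      apply Quotient.sound
      by_cases ha : a = 0
      · have hb : b = 0 := by
          by_contra hb
          rw [decide_eq_true ha, decide_eq_false hb] at hab
          exact Bool.noConfusion hab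
        rw [ha, hb]
      · have hb : b ≠ 0 := by
          intro hb
          rw [decide_eq_false ha, decide_eq_true hb] at hab
          exact Bool.noConfusion hab
        obtain ⟨g, hg⟩ := htr b a hb ha
        exact MulAction.orbitRel_apply.2 ⟨g, hg⟩
    · intro b
      cases b with
      | false =>
        obtain ⟨v, hv⟩ := hV
        refine ⟨Quotient.mk _ v, ?_⟩
        change decide (v = 0) = false
        exact decide_eq_false hv
      | true =>
        refine ⟨Quotient.mk _ 0, ?_⟩
        change decide ((0 : V) = 0) = true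
        exact decide_eq_true rfl
  rw [h1] at h
  rw [← h]
  refine Finset.sum_congr rfl fun g _ => ?_
  rw [fix, Nat.card_eq_fintype_card]
  rfl

/-- **Irreducibility of the two Weil characters.** -/
theorem isIrr [Fintype G] (he : ∀ (g : G) (v w : V), H.e (g • v) (g • w) = H.e v w)
    (hV : ∃ v : V, v ≠ 0) (htr : ∀ v w : V, v ≠ 0 → w ≠ 0 → ∃ g : G, g • v = w)
    (hX : 3 ≤ Fintype.card X) :
    IsIrrCharacter G (fp H : G → ℂ) ∧ IsIrrCharacter G (fm H : G → ℂ) := by
  have hp := isCharacter_fp (H := H) he
  have hm := isCharacter_fm (H := H) he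
  obtain ⟨a, ha⟩ := Characters.Core.classInner_isNat hp hp
  obtain ⟨b, hb⟩ := Characters.Core.classInner_isNat hm hm
  obtain ⟨c, hc⟩ := Characters.Core.classInner_isNat hp hm
  obtain ⟨d, hd⟩ := Characters.Core.classInner_isNat hm hp
  have htot : classInner (fp H + fm H : G → ℂ) (fp H + fm H) = 2 := by
    rw [Characters.Core.classInner_def]
    have h1 : ∀ g : G, (fp H + fm H : G → ℂ) g * conj ((fp H + fm H : G → ℂ) g) =
        (fix V g : ℂ) := by
      intro g
      change (fp H g + fm H g) * conj (fp H g + fm H g) = _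
      rw [fp_add_fm, trace_om he]
    rw [Finset.sum_congr rfl (fun g _ => h1 g), ← Nat.cast_sum, sum_fix hV htr,
      Nat.card_eq_fintype_card]
    have h2 : (Fintype.card G : ℂ) ≠ 0 := by exact_mod_cast Fintype.card_ne_zero
    push_cast
    field_simp
  rw [Characters.Core.classInner_add_left, Characters.Core.classInner_add_right,
    Characters.Core.classInner_add_right, ha, hb, hc, hd] at htot
  have htot' : (a + c) + (d + b) = 2 := by exact_mod_cast htot
  have hX' : (3 : ℝ) ≤ Fintype.card X := by exact_mod_cast hX
  have ha0 : a ≠ 0 := by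
    rintro rfl
    rw [Nat.cast_zero] at ha
    have h1 := congrFun (Characters.Core.classInner_self_eq_zero ha) 1
    rw [fp_one he, Pi.zero_apply, div_eq_zero_iff] at h1
    rcases h1 with h1 | h1
    · have h2 := congrArg Complex.re h1
      simp at h2
      linarith
    · norm_num at h1
  have hb0 : b ≠ 0 := by
    rintro rfl
    rw [Nat.cast_zero] at hb
    have h1 := congrFun (Characters.Core.classInner_self_eq_zero hb) 1
    rw [fm_one he, Pi.zero_apply, div_eq_zero_iff] at h1
    rcases h1 with h1 | h1
    · have h2 := congrArg Complex.re h1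
      simp at h2
      linarith
    · norm_num at h1
  have ha1 : a = 1 := by omega
  have hb1 : b = 1 := by omega
  subst ha1 hb1
  rw [Nat.cast_one] at ha hb
  exact ⟨Characters.Core.isIrr_of_classInner_self hp ha,
    Characters.Core.isIrr_of_classInner_self hm hb⟩

/-- A central involution-like element acting as `-1` is in the kernel of one of the two
characters. -/
theorem fp_or_fm_neg (he : ∀ (g : G) (v w : V), H.e (g • v) (g • w) = H.e v w) {z : G}
    (hz : ∀ v : V, z • v = -v) (hz2 : z * z = 1) :
    (∀ g : G, fp H (z * g) = fp H g ∧ fm H (z * g) = -fm H g) ∨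
      (∀ g : G, fp H (z * g) = -fp H g ∧ fm H (z * g) = fm H g) := by
  have hPp : H.P * H.Pp = H.Pp := by
    rw [Pp, mul_smul_comm, mul_add, mul_one, H.P_sq, add_comm]
  have hPm : H.P * H.Pm = -H.Pm := by
    rw [Pm, mul_smul_comm, mul_sub, mul_one, H.P_sq, ← smul_neg, neg_sub]
  have e1 : ∀ g : G, H.P * H.om g * H.Pp = H.om g * H.Pp := fun g => by
    rw [om_comm_P, mul_assoc, hPp]
  have e2 : ∀ g : G, H.P * H.om g * H.Pm = -(H.om g * H.Pm) := fun g => by
    rw [om_comm_P, mul_assoc, hPm, mul_neg]
  rcases om_neg he hz hz2 with h | h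
  · left
    intro g
    rw [fp, fm, om_mul he, h, e1, e2, Matrix.trace_neg]
    exact ⟨rfl, rfl⟩
  · right
    intro g
    rw [fp, fm, om_mul he, h, neg_mul, neg_mul, neg_mul, e1, e2, neg_neg, Matrix.trace_neg]
    exact ⟨rfl, rfl⟩

end Cfsg.Agent.H677.WeilChar
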