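import Mathlib
import Cfsg.Prelude.Def_ClassicalGeometry
import Cfsg.Agent.H677.WeilCore
import Cfsg.Agent.ClassicalGeometry.SympBasic

/-!
# The Heisenberg data of the symplectic space of dimension `2 n` over a finite field of odd order
-/

set_option autoImplicit false

namespace Cfsg.Agent.H677.WeilSp

open Matrix Cfsg Cfsg.Agent.H677.WeilCore
open Cfsg.Agent.ClassicalGeometry.SympBasic
open scoped ComplexConjugate ComplexOrder

section Parity

variable {X : Type*} [AddCommGroup X] [Fintype X] [DecidableEq X]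

variable (X) in
/-- The parity matrix. -/
def par : Matrix X X ℂ := fun x y => if y = -x then 1 else 0

theorem par_mul (A : Matrix X X ℂ) (x y : X) : (par X * A) x y = A (-x) y := by
  rw [Matrix.mul_apply]
  simp only [par, ite_mul, one_mul, zero_mul, Finset.sum_ite_eq', Finset.mem_univ, if_true]

theorem mul_par (A : Matrix X X ℂ) (x y : X) : (A * par X) x y = A x (-y) := by
  rw [Matrix.mul_apply]
  have h : ∀ z : X, A x z * par X z y = if z = -y then A x z else 0 := by
    intro z
    rw [par]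
    by_cases hz : z = -y
    · rw [if_pos hz, if_pos (by rw [hz, neg_neg]), mul_one]
    · rw [if_neg hz, if_neg (fun h => hz (by rw [h, neg_neg])), mul_zero]
  simp only [h, Finset.sum_ite_eq', Finset.mem_univ, if_true]

theorem par_sq : par X * par X = 1 := by
  ext x y
  rw [par_mul, par, neg_neg, Matrix.one_apply]
  simp only [eq_comm]

omit [Fintype X] in
theorem star_par : (par X)ᴴ = par X := by
  ext x y
  rw [Matrix.conjTranspose_apply, par, par]
  by_cases h : y = -x
  · rw [if_pos h, if_pos (by rw [h, neg_neg]), star_one]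
  · rw [if_neg h, if_neg (fun h' => h (by rw [h', neg_neg])), star_zero]

theorem trace_par (h2 : ∀ x : X, x = -x → x = 0) : (par X).trace = 1 := by
  rw [Matrix.trace]
  have h : ∀ x : X, Matrix.diag (par X) x = if x = 0 then 1 else 0 := by
    intro x
    rw [Matrix.diag_apply, par]
    by_cases hx : x = 0
    · rw [if_pos (by rw [hx, neg_zero]), if_pos hx]
    · rw [if_neg (fun h' => hx (h2 x h')), if_neg hx]
  simp only [h, Finset.sum_ite_eq', Finset.mem_univ, if_true]

omit [DecidableEq X] in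
/-- An odd sign function. -/
theorem exists_sign (h2 : ∀ x : X, x = -x → x = 0) :
    ∃ s : X → ℂ, s 0 = 1 ∧ (∀ x, s x * s x = 1) ∧ ∀ x, x ≠ 0 → s x * s (-x) = -1 := by
  let f := Fintype.equivFin X
  refine ⟨fun x => if f (-x) < f x then -1 else 1, ?_, ?_, ?_⟩
  · simp
  · intro x
    dsimp only
    split_ifs <;> norm_num
  · intro x hx
    dsimp only
    rw [neg_neg]
    have hne : f (-x) ≠ f x := fun h => hx (h2 x (f.injective h).symm)
    rcases lt_or_gt_of_ne hne with h | h
    · rw [if_pos h, if_neg (not_lt.2 h.le)]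
      norm_num
    · rw [if_neg (not_lt.2 h.le), if_pos h]
      norm_num

theorem det_par (h2 : ∀ x : X, x = -x → x = 0) (c : ℂ) :
    (c • ((1 / 2 : ℂ) • (1 + par X)) + (1 / 2 : ℂ) • (1 - par X)).det =
    c * (c • ((1 / 2 : ℂ) • (1 - par X)) + (1 / 2 : ℂ) • (1 + par X)).det := by
  obtain ⟨s, hs0, hs1, hs2⟩ := exists_sign h2
  set E : Matrix X X ℂ := Matrix.diagonal s with hE
  have hEE : E * E = 1 := by
    rw [hE, Matrix.diagonal_mul_diagonal]
    ext x y
    by_cases h : x = y
    · subst h; rw [Matrix.diagonal_apply_eq, hs1, Matrix.one_apply_eq]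
    · rw [Matrix.diagonal_apply_ne _ h, Matrix.one_apply_ne h]
  set A₁ := c • ((1 / 2 : ℂ) • (1 + par X)) + (1 / 2 : ℂ) • (1 - par X) with hA₁
  set A₂ := c • ((1 / 2 : ℂ) • (1 - par X)) + (1 / 2 : ℂ) • (1 + par X) with hA₂
  let Δ : Matrix X X ℂ := Matrix.diagonal (fun x => if x = 0 then c else 1)
  have hdet : Δ.det = c := by
    rw [Matrix.det_diagonal]
    simp [Finset.prod_ite_eq']
  have key : E * A₁ * E = A₂ * Δ := by
    ext x y
    rw [hE, Matrix.mul_diagonal, Matrix.diagonal_mul, Matrix.mul_diagonal, hA₁, hA₂]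
    simp only [Matrix.add_apply, Matrix.smul_apply, Matrix.sub_apply, smul_eq_mul, par,
      Matrix.one_apply]
    by_cases hy : y = 0
    · subst hy
      rw [if_pos rfl, hs0]
      by_cases hx : x = 0
      · subst hx
        rw [hs0, if_pos rfl, if_pos neg_zero.symm]
        ring
      · rw [if_neg hx, if_neg (fun h => hx (by rw [← neg_neg x, ← h, neg_zero]))]
        ring
    · rw [if_neg hy, mul_one]
      by_cases hxy : x = y
      · subst hxy
        rw [if_pos rfl, if_neg (fun h => hy (h2 x h))]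
        linear_combination (c * (1 / 2) + 1 / 2) * hs1 x
      · rw [if_neg hxy]
        by_cases hn : y = -x
        · rw [if_pos hn, hn]
          have hx : x ≠ 0 := by
            rintro rfl
            rw [neg_zero] at hn
            exact hy hn
          linear_combination (c * (1 / 2) - 1 / 2) * hs2 x hx
        · rw [if_neg hn]
          ring
  have h := congrArg Matrix.det key
  rw [Matrix.det_mul, Matrix.det_mul, Matrix.det_mul, hdet] at h
  have h1 := congrArg Matrix.det hEE
  rw [Matrix.det_mul, Matrix.det_one] at h1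
  linear_combination h - A₁.det * h1

end Parity

section Field

variable {F : Type*} [Field F] [Fintype F] [DecidableEq F] {n : ℕ}

/-- The Heisenberg operators. -/
noncomputable def Dop (n : ℕ) (ψ : AddChar F ℂ) (v : Fin n ⊕ Fin n → F) :
    Matrix (Fin n → F) (Fin n → F) ℂ :=
  fun x y => if y = x + v ∘ Sum.inl then
    ψ ((v ∘ Sum.inr) ⬝ᵥ x + 2⁻¹ * ((v ∘ Sum.inl) ⬝ᵥ (v ∘ Sum.inr))) else 0

/-- The Heisenberg cocycle. -/
noncomputable def ecoc (n : ℕ) (ψ : AddChar F ℂ) (v w : Fin n ⊕ Fin n → F) : ℂ :=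
  ψ (2⁻¹ * (-sympForm n F v w))

omit [Fintype F] [DecidableEq F] in
theorem sympForm_eq (v w : Fin n ⊕ Fin n → F) : sympForm n F v w =
    (v ∘ Sum.inr) ⬝ᵥ (w ∘ Sum.inl) - (v ∘ Sum.inl) ⬝ᵥ (w ∘ Sum.inr) := by
  rw [sympForm_eq_sum, Finset.sum_sub_distrib]
  rfl

theorem Dop_mul_apply (ψ : AddChar F ℂ) (v : Fin n ⊕ Fin n → F)
    (A : Matrix (Fin n → F) (Fin n → F) ℂ) (x y : Fin n → F) :
    (Dop n ψ v * A) x y =
      ψ ((v ∘ Sum.inr) ⬝ᵥ x + 2⁻¹ * ((v ∘ Sum.inl) ⬝ᵥ (v ∘ Sum.inr))) *
        A (x + v ∘ Sum.inl) y := by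
  rw [Matrix.mul_apply]
  simp only [Dop, ite_mul, zero_mul, Finset.sum_ite_eq', Finset.mem_univ, if_true]

theorem mul_Dop_apply (ψ : AddChar F ℂ) (v : Fin n ⊕ Fin n → F)
    (A : Matrix (Fin n → F) (Fin n → F) ℂ) (x y : Fin n → F) :
    (A * Dop n ψ v) x y = A x (y - v ∘ Sum.inl) *
      ψ ((v ∘ Sum.inr) ⬝ᵥ (y - v ∘ Sum.inl) + 2⁻¹ * ((v ∘ Sum.inl) ⬝ᵥ (v ∘ Sum.inr))) := by
  rw [Matrix.mul_apply]
  have h : ∀ z : Fin n → F, A x z * Dop n ψ v z y = if z = y - v ∘ Sum.inl then
      A x z * ψ ((v ∘ Sum.inr) ⬝ᵥ z + 2⁻¹ * ((v ∘ Sum.inl) ⬝ᵥ (v ∘ Sum.inr))) else 0 := by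
    intro z
    rw [Dop]
    by_cases hz : z = y - v ∘ Sum.inl
    · rw [if_pos hz, if_pos (by rw [hz, sub_add_cancel])]
    · rw [if_neg hz, if_neg (fun h => hz (by rw [h, add_sub_cancel_right])), mul_zero]
  simp only [h, Finset.sum_ite_eq', Finset.mem_univ, if_true]

/-- The Heisenberg data. -/
noncomputable def heis (n : ℕ) (h2 : (2 : F) ≠ 0) (ψ : AddChar F ℂ) (hψ : ψ ≠ 1) :
    HData (Fin n ⊕ Fin n → F) (Fin n → F) where
  D := Dop n ψ
  e := ecoc n ψ
  P := par (Fin n → F)
  D_mul v w := by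
    ext x y
    rw [Dop_mul_apply, Matrix.smul_apply, smul_eq_mul, Dop, Dop, ecoc]
    have e1 : (v + w) ∘ Sum.inl = v ∘ Sum.inl + w ∘ Sum.inl := rfl
    have e2 : (v + w) ∘ Sum.inr = v ∘ Sum.inr + w ∘ Sum.inr := rfl
    rw [e1, e2, add_assoc]
    split_ifs with h
    · rw [← AddChar.map_add_eq_mul, ← AddChar.map_add_eq_mul]
      congr 1
      rw [sympForm_eq, dotProduct_add, add_dotProduct, add_dotProduct, dotProduct_add,
        dotProduct_add, dotProduct_comm (w ∘ Sum.inr) (v ∘ Sum.inl),
        dotProduct_comm (v ∘ Sum.inr) (w ∘ Sum.inl)]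
      field_simp
      ring
    · rw [mul_zero, mul_zero]
  D_zero := by
    ext x y
    rw [Dop, Matrix.one_apply]
    have e1 : (0 : Fin n ⊕ Fin n → F) ∘ Sum.inl = 0 := rfl
    have e2 : (0 : Fin n ⊕ Fin n → F) ∘ Sum.inr = 0 := rfl
    rw [e1, e2, add_zero, zero_dotProduct, zero_dotProduct, mul_zero, add_zero,
      AddChar.map_zero_eq_one]
    simp only [eq_comm]
  e_add_left u v w := by
    rw [ecoc, ecoc, ecoc, ← AddChar.map_add_eq_mul, sympForm_add_left]
    congr 1
    ring
  e_add_right u v w := by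
    rw [ecoc, ecoc, ecoc, ← AddChar.map_add_eq_mul, sympForm_add_right]
    congr 1
    ring
  e_self v := by
    rw [ecoc, sympForm_self, neg_zero, mul_zero, AddChar.map_zero_eq_one]
  star_D v := by
    ext x y
    rw [Matrix.conjTranspose_apply, Dop, Dop]
    have e1 : (-v) ∘ Sum.inl = -(v ∘ Sum.inl) := rfl
    have e2 : (-v) ∘ Sum.inr = -(v ∘ Sum.inr) := rfl
    rw [e1, e2]
    by_cases h : x = y + v ∘ Sum.inl
    · rw [if_pos h, if_pos (by rw [h, add_neg_cancel_right])]
      change conj (ψ _) = _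
      rw [← AddChar.map_neg_eq_conj, h]
      congr 1
      rw [dotProduct_add, neg_dotProduct, neg_dotProduct, neg_dotProduct, dotProduct_neg,
        dotProduct_comm (v ∘ Sum.inr) (v ∘ Sum.inl)]
      field_simp
      ring
    · rw [if_neg h, if_neg (fun h' => h (by rw [h', neg_add_cancel_right])), star_zero]
  trace_D v hv := by
    rw [Matrix.trace]
    simp only [Matrix.diag_apply, Dop]
    by_cases ha : v ∘ Sum.inl = 0
    · rw [ha]
      simp only [add_zero, if_true, zero_dotProduct, mul_zero]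
      have hb : v ∘ Sum.inr ≠ 0 := by
        intro hb
        apply hv
        rw [← Sum.elim_comp_inl_inr v, ha, hb]
        ext (i | i) <;> rfl
      obtain ⟨i, hi⟩ := Function.ne_iff.1 hb
      let χ : AddChar (Fin n → F) ℂ :=
        { toFun := fun x => ψ ((v ∘ Sum.inr) ⬝ᵥ x)
          map_zero_eq_one' := by rw [dotProduct_zero, AddChar.map_zero_eq_one]
          map_add_eq_mul' := fun x y => by rw [dotProduct_add, AddChar.map_add_eq_mul] }
      have hχ : χ ≠ 0 := by
        intro h
        apply hψ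
        ext a
        have h1 := DFunLike.congr_fun h (Pi.single i (((v ∘ Sum.inr) i)⁻¹ * a))
        change ψ ((v ∘ Sum.inr) ⬝ᵥ (Pi.single i (((v ∘ Sum.inr) i)⁻¹ * a))) = 1 at h1
        rw [dotProduct_single, mul_inv_cancel_left₀ hi] at h1
        rw [h1, AddChar.one_apply]
      exact AddChar.sum_eq_zero_of_ne_one hχ
    · apply Finset.sum_eq_zero
      intro x _
      rw [if_neg]
      intro h
      apply ha
      exact (left_eq_add.1 h)
  comm A hA := by
    have hA1 : ∀ x y, x ≠ y → A x y = 0 := by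
      intro x y hxy
      obtain ⟨i, hi⟩ := Function.ne_iff.1 hxy
      by_contra hne
      apply hψ
      ext a
      rw [AddChar.one_apply]
      have hi' : x i - y i ≠ 0 := sub_ne_zero.2 hi
      have h1 := congrFun (congrFun (hA (Sum.elim 0 (Pi.single i ((x i - y i)⁻¹ * a)))) x) y
      rw [Dop_mul_apply, mul_Dop_apply] at h1
      rw [Sum.elim_comp_inl, Sum.elim_comp_inr, zero_dotProduct, mul_zero, add_zero, add_zero,
        sub_zero, add_zero, mul_comm] at h1
      have h2' := mul_right_cancel₀ hne h1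
      rw [single_dotProduct, single_dotProduct] at h2'
      have h3 : (x i - y i)⁻¹ * a * x i = (x i - y i)⁻¹ * a * y i + a := by
        field_simp
        ring
      rw [h3, AddChar.map_add_eq_mul] at h2'
      have h4 : ψ ((x i - y i)⁻¹ * a * y i) ≠ 0 := by
        intro h0
        have := AddChar.norm_apply ψ ((x i - y i)⁻¹ * a * y i)
        rw [h0, norm_zero] at this
        exact zero_ne_one this
      exact (mul_left_cancel₀ h4 (by rw [mul_one]; exact h2'.symm))
    have hA2 : ∀ x, A x x = A 0 0 := by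
      intro x
      have h1 := congrFun (congrFun (hA (Sum.elim x 0)) 0) x
      rw [Dop_mul_apply, mul_Dop_apply, Sum.elim_comp_inl, Sum.elim_comp_inr, zero_dotProduct,
        zero_dotProduct, dotProduct_zero, sub_self, zero_add, zero_add, mul_zero,
        AddChar.map_zero_eq_one, mul_one, one_mul] at h1
      exact h1.symm
    refine ⟨A 0 0, ?_⟩
    ext x y
    rw [Matrix.smul_apply, smul_eq_mul]
    by_cases h : x = y
    · subst h; rw [Matrix.one_apply_eq, mul_one, hA2]
    · rw [Matrix.one_apply_ne h, mul_zero, hA1 x y h]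
  P_sq := par_sq
  star_P := star_par
  P_D v := by
    ext x y
    rw [par_mul, mul_par, Dop, Dop]
    have e1 : (-v) ∘ Sum.inl = -(v ∘ Sum.inl) := rfl
    have e2 : (-v) ∘ Sum.inr = -(v ∘ Sum.inr) := rfl
    rw [e1, e2, neg_dotProduct, neg_dotProduct, dotProduct_neg, dotProduct_neg, neg_neg]
    by_cases h : y = -x + v ∘ Sum.inl
    · rw [if_pos h, if_pos (by rw [h, neg_add, neg_neg])]
    · rw [if_neg h, if_neg (fun h' => h (by rw [← neg_neg y, h', neg_add, neg_neg]))]
  trace_P := trace_par (fun x hx => by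
    ext i
    have h := congrFun hx i
    rw [Pi.neg_apply, eq_neg_iff_add_eq_zero, ← two_mul] at h
    exact (mul_eq_zero.1 h).resolve_left h2)
  card_V := by
    rw [Fintype.card_fun, Fintype.card_fun, Fintype.card_sum, Fintype.card_fin, ← pow_mul]
    congr 1
    ring
  det_P := det_par (fun x hx => by
    ext i
    have h := congrFun hx i
    rw [Pi.neg_apply, eq_neg_iff_add_eq_zero, ← two_mul] at h
    exact (mul_eq_zero.1 h).resolve_left h2)

end Field

end Cfsg.Agent.H677.WeilSp
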