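import Mathlib
import Cfsg.Prelude.Def_Blocks
import Cfsg.Prelude.Def_Classical
import Cfsg.Agent.H677.WeilChar
import Cfsg.Agent.H677.WeilSp
import Cfsg.Agent.S0271
import Cfsg.Agent.ClassicalGeometry.SympInvolutions
import Cfsg.Agent.H686.CharKit

/-!
# The Weil characters of `Sp_{2n}(q)`, `q` odd

* `exists_weil`: for `q` odd, `n ≥ 1`, the group `Sp_{2n}(q)` has irreducible characters `χ₁`, `χ₂`
  of degrees `(q^n + 1) / 2` and `(q^n - 1) / 2`, with `|χ₁ g + χ₂ g|² = #{v | g v = v}`, and one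
  of the two is trivial on `-1`;
* `exists_irr_psp`: `PSp_{2n}(q)` has an irreducible character of degree `(q^n + 1) / 2` or
  `(q^n - 1) / 2`.
-/

set_option autoImplicit false

namespace Cfsg.Agent.H677.WeilIrr

open Matrix Cfsg Cfsg.Agent.H677.WeilCore Cfsg.Agent.H677.WeilChar Cfsg.Agent.H677.WeilSp
open Cfsg.Agent.ClassicalGeometry.SympBasic Cfsg.Agent.ClassicalGeometry.SympInvolutions
open Cfsg.Agent.H686.CharKit
open scoped ComplexConjugate

universe u

variable {F : Type u} [Field F] {n : ℕ}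

/-- The natural action of the symplectic group. -/
@[reducible] def spAct (n : ℕ) (F : Type u) [Field F] :
    DistribMulAction (Matrix.symplecticGroup (Fin n) F) (Fin n ⊕ Fin n → F) where
  smul g v := (g : Matrix (Fin n ⊕ Fin n) (Fin n ⊕ Fin n) F) *ᵥ v
  one_smul v := Matrix.one_mulVec v
  mul_smul g h v := (Matrix.mulVec_mulVec v g.1 h.1).symm
  smul_zero g := Matrix.mulVec_zero g.1
  smul_add g := Matrix.mulVec_add g.1

theorem exists_psi (F : Type u) [Field F] [Finite F] : ∃ ψ : AddChar F ℂ, ψ ≠ 1 := by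
  obtain ⟨ψ, hψ⟩ := AddChar.exists_apply_ne_zero.2 (one_ne_zero : (1 : F) ≠ 0)
  exact ⟨ψ, fun h => hψ (by rw [h, AddChar.one_apply])⟩

theorem exists_weil [Finite F] (hn : 1 ≤ n) (h2 : (2 : F) ≠ 0) {ψ : AddChar F ℂ} (hψ : ψ ≠ 1) :
    ∃ χ₁ χ₂ : IrrCharacter (Matrix.symplecticGroup (Fin n) F),
      2 * charDegree (χ₁ : Matrix.symplecticGroup (Fin n) F → ℂ) = Nat.card F ^ n + 1 ∧
      2 * charDegree (χ₂ : Matrix.symplecticGroup (Fin n) F → ℂ) = Nat.card F ^ n - 1 ∧
      (∀ g : Matrix.symplecticGroup (Fin n) F,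
        (χ₁.1 g + χ₂.1 g) * conj (χ₁.1 g + χ₂.1 g) =
          (Nat.card {v : Fin n ⊕ Fin n → F // g.1 *ᵥ v = v} : ℂ)) ∧
      ((∀ g, χ₁.1 (negOne n F * g) = χ₁.1 g ∧ χ₂.1 (negOne n F * g) = -χ₂.1 g) ∨
        (∀ g, χ₁.1 (negOne n F * g) = -χ₁.1 g ∧ χ₂.1 (negOne n F * g) = χ₂.1 g)) := by
  classical
  have : Fintype F := Fintype.ofFinite F
  let : DistribMulAction (Matrix.symplecticGroup (Fin n) F) (Fin n ⊕ Fin n → F) := spAct n F
  have : Fintype (Matrix.symplecticGroup (Fin n) F) := Fintype.ofFinite _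
  let H := heis n h2 ψ hψ
  have hsm : ∀ (g : Matrix.symplecticGroup (Fin n) F) (v : Fin n ⊕ Fin n → F),
      g • v = (g : Matrix (Fin n ⊕ Fin n) (Fin n ⊕ Fin n) F) *ᵥ v := fun _ _ => rfl
  have he : ∀ (g : Matrix.symplecticGroup (Fin n) F) (v w : Fin n ⊕ Fin n → F),
      H.e (g • v) (g • w) = H.e v w := by
    intro g v w
    change ecoc n ψ _ _ = ecoc n ψ _ _
    rw [ecoc, ecoc, hsm, hsm, sympForm_mulVec g.2]
  have hV : ∃ v : Fin n ⊕ Fin n → F, v ≠ 0 := by
    refine ⟨Pi.single (Sum.inl ⟨0, hn⟩) 1, ?_⟩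
    intro h
    have := congrFun h (Sum.inl ⟨0, hn⟩)
    rw [Pi.single_eq_same] at this
    exact one_ne_zero this
  have htr : ∀ v w : Fin n ⊕ Fin n → F, v ≠ 0 → w ≠ 0 →
      ∃ g : Matrix.symplecticGroup (Fin n) F, g • v = w := fun v w hv hw =>
    S0271.result n v w hv hw
  have hq : 3 ≤ Fintype.card F := by
    have h1 : 1 < Fintype.card F := Fintype.one_lt_card
    by_contra hcon
    have h3 : Fintype.card F = 2 := by omega
    have h4 : (Fintype.card F : F) = 0 := FiniteField.cast_card_eq_zero F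
    rw [h3] at h4
    exact h2 (by exact_mod_cast h4)
  have hcX : Fintype.card (Fin n → F) = Nat.card F ^ n := by
    rw [Fintype.card_fun, Fintype.card_fin, Nat.card_eq_fintype_card]
  have hX : 3 ≤ Fintype.card (Fin n → F) := by
    rw [Fintype.card_fun, Fintype.card_fin]
    calc 3 ≤ Fintype.card F := hq
      _ = Fintype.card F ^ 1 := (pow_one _).symm
      _ ≤ Fintype.card F ^ n := Nat.pow_le_pow_right (by omega) hn
  obtain ⟨h₁, h₂⟩ := isIrr (H := H) he hV htr hX
  refine ⟨⟨_, h₁⟩, ⟨_, h₂⟩, ?_, ?_, ?_, ?_⟩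
  · have h := charDegree_irr ⟨_, h₁⟩
    change (charDegree (fp H : Matrix.symplecticGroup (Fin n) F → ℂ) : ℂ) = fp H 1 at h
    rw [fp_one he, hcX] at h
    have h' : (2 * charDegree (fp H : Matrix.symplecticGroup (Fin n) F → ℂ) : ℂ) =
      ((Nat.card F ^ n + 1 : ℕ) : ℂ) := by
      rw [h]
      push_cast
      ring
    exact_mod_cast h'
  · have h := charDegree_irr ⟨_, h₂⟩
    change (charDegree (fm H : Matrix.symplecticGroup (Fin n) F → ℂ) : ℂ) = fm H 1 at h
    rw [fm_one he, hcX] at h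
    have hpos : 1 ≤ Nat.card F ^ n := by omega
    have h' : (2 * charDegree (fm H : Matrix.symplecticGroup (Fin n) F → ℂ) : ℂ) =
      ((Nat.card F ^ n - 1 : ℕ) : ℂ) := by
      rw [h, Nat.cast_sub hpos]
      push_cast
      ring
    exact_mod_cast h'
  · intro g
    change (fp H g + fm H g) * conj (fp H g + fm H g) = _
    rw [fp_add_fm, HData.trace_om he]
    rfl
  · apply fp_or_fm_neg he (z := negOne n F)
    · intro v
      rw [hsm]
      change (-1 : Matrix (Fin n ⊕ Fin n) (Fin n ⊕ Fin n) F) *ᵥ v = -v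
      rw [Matrix.neg_mulVec, Matrix.one_mulVec]
    · apply Subtype.ext
      change (-1 : Matrix (Fin n ⊕ Fin n) (Fin n ⊕ Fin n) F) * (-1) = 1
      rw [neg_mul_neg, one_mul]

/-- An irreducible character of `PSp_{2n}(q)`, `q` odd, of degree `(q^n ± 1) / 2`. -/
theorem exists_irr_psp [Finite F] (hn : 1 ≤ n) (h2 : (2 : F) ≠ 0) :
    ∃ χ : IrrCharacter (PSp n F),
      2 * charDegree (χ : PSp n F → ℂ) = Nat.card F ^ n + 1 ∨
      2 * charDegree (χ : PSp n F → ℂ) = Nat.card F ^ n - 1 := by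
  have : Finite (Matrix.symplecticGroup (Fin n) F) := inferInstance
  obtain ⟨ψ, hψ⟩ := exists_psi F
  obtain ⟨χ₁, χ₂, hd1, hd2, -, hz⟩ := exists_weil hn h2 hψ
  have key : ∀ χ : IrrCharacter (Matrix.symplecticGroup (Fin n) F),
      (∀ g, χ.1 (negOne n F * g) = χ.1 g) →
      ∃ θ : IrrCharacter (PSp n F), charDegree (θ : PSp n F → ℂ) =
        charDegree (χ : Matrix.symplecticGroup (Fin n) F → ℂ) := by
    intro χ hχ
    have hle : Subgroup.center (Matrix.symplecticGroup (Fin n) F) ≤ chKer χ := by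
      intro z hz
      rw [mem_chKer]
      rcases center_eq hz with h | h
      · have : z = 1 := Subtype.ext h
        rw [this]
      · have : z = negOne n F * 1 := by
          rw [mul_one]
          exact Subtype.ext h
        rw [this]
        exact hχ 1
    obtain ⟨θ, hθ⟩ := exists_infl _ χ hle
    refine ⟨θ, ?_⟩
    have h := congrFun (congrArg Subtype.val hθ) 1
    unfold charDegree
    rw [← h]
    rfl
  rcases hz with hz | hz
  · obtain ⟨θ, hθ⟩ := key χ₁ fun g => (hz g).1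
    exact ⟨θ, Or.inl (by rw [hθ, hd1])⟩
  · obtain ⟨θ, hθ⟩ := key χ₂ fun g => (hz g).2
    exact ⟨θ, Or.inr (by rw [hθ, hd2])⟩

end Cfsg.Agent.H677.WeilIrr
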