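import Mathlib
import Cfsg.Prelude.Def_Blocks
import Cfsg.Agent.H677.CodMultiset
import Cfsg.Agent.S4797

/-!
# Codegrees counted with multiplicity determine the order, simplicity and the degrees
-/

set_option autoImplicit false

namespace Cfsg.Agent.H677.CodMain

open Cfsg Cfsg.Agent.H686.CharKit Cfsg.Agent.H677.CodPrime Cfsg.Agent.H677.CodMultiset
open scoped commutatorElement

universe u v

/-- A nontrivial finite group has a simple quotient. -/
theorem exists_simple_quotient {G : Type u} [Group G] [Finite G] [Nontrivial G] :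
    ∃ (N : Subgroup G) (_ : N.Normal), IsSimpleGroup (G ⧸ N) := by
  classical
  let s : Set (Subgroup G) := {N | N.Normal ∧ N ≠ ⊤}
  have hs : s.Nonempty := ⟨⊥, inferInstance, bot_ne_top⟩
  obtain ⟨N, hN⟩ := (Set.toFinite s).exists_maximal hs
  have hNn : N.Normal := hN.1.1
  have hNt : N ≠ ⊤ := hN.1.2
  refine ⟨N, hNn, ?_⟩
  have hnt : Nontrivial (G ⧸ N) := QuotientGroup.nontrivial_iff.2 hNt
  refine { toNontrivial := hnt, eq_bot_or_eq_top_of_normal := fun M hM => ?_ }
  have hsur := QuotientGroup.mk'_surjective N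
  have hcn : (M.comap (QuotientGroup.mk' N)).Normal := hM.comap _
  have hNle : N ≤ M.comap (QuotientGroup.mk' N) := by
    intro x hx
    rw [Subgroup.mem_comap, QuotientGroup.mk'_apply, (QuotientGroup.eq_one_iff x).2 hx]
    exact M.one_mem
  by_cases htop : M.comap (QuotientGroup.mk' N) = ⊤
  · right
    rw [← Subgroup.map_comap_eq_self_of_surjective hsur M, htop,
      Subgroup.map_top_of_surjective _ hsur]
  · left
    have h1 : M.comap (QuotientGroup.mk' N) ≤ N := hN.2 ⟨hcn, htop⟩ hNle
    rw [eq_bot_iff]
    intro y hy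
    obtain ⟨x, rfl⟩ := hsur y
    have hx : x ∈ M.comap (QuotientGroup.mk' N) := hy
    rw [Subgroup.mem_bot, QuotientGroup.mk'_apply]
    exact (QuotientGroup.eq_one_iff x).2 (h1 hx)

theorem commutator_eq_top_of_simple {S : Type u} [Group S] [IsSimpleGroup S]
    (hna : ¬ IsMulCommutative S) : commutator S = ⊤ := by
  rcases (inferInstance : (commutator S).Normal).eq_bot_or_eq_top with h | h
  · exfalso
    apply hna
    refine ⟨⟨fun a b => ?_⟩⟩
    have h1 : ⁅a, b⁆ ∈ commutator S := Subgroup.commutator_mem_commutator (Subgroup.mem_top a)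
      (Subgroup.mem_top b)
    rw [h, Subgroup.mem_bot, commutatorElement_eq_one_iff_mul_comm] at h1
    exact h1
  · exact h

theorem card_ge_three {S : Type u} [Group S] [Finite S] (hna : ¬ IsMulCommutative S) :
    3 ≤ Nat.card S := by
  by_contra hlt
  push Not at hlt
  apply hna
  have hpos : 0 < Nat.card S := Nat.card_pos
  have h12 : Nat.card S = 1 ∨ Nat.card S = 2 := by omega
  rcases h12 with h | h
  · have := (Nat.card_eq_one_iff_unique.1 h).1
    exact ⟨⟨fun a b => Subsingleton.elim _ _⟩⟩
  · have : Fact (Nat.Prime 2) := ⟨Nat.prime_two⟩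
    have hc : IsCyclic S := isCyclic_of_prime_card h
    let _ := hc.commGroup
    exact ⟨⟨fun a b => mul_comm a b⟩⟩

/-- **Codegrees with multiplicity.** If the finite group `G` has the same codegrees with
multiplicity as the non-abelian simple group `S`, then `G` is simple non-abelian, it has the same
order as `S`, and the bijection preserves degrees. -/
theorem main {S : Type u} [Group S] [Finite S] [IsSimpleGroup S] (hna : ¬ IsMulCommutative S)
    {G : Type v} [Group G] [Finite G] (f : IrrCharacter G ≃ IrrCharacter S)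
    (hf : ∀ χ : IrrCharacter G, cod χ = cod (f χ)) :
    IsSimpleGroup G ∧ ¬ IsMulCommutative G ∧ Nat.card G = Nat.card S ∧
      ∀ χ : IrrCharacter G, charDegree (χ : G → ℂ) = charDegree (f χ : S → ℂ) := by
  classical
  have hS3 := card_ge_three hna
  have hnt : Nontrivial G := by
    by_contra hsub
    rw [not_nontrivial_iff_subsingleton] at hsub
    -- `G` trivial: only one irreducible character
    have h1 : ∀ χ : IrrCharacter G, χ = one G := by
      intro χ
      apply eq_one_of_chKer
      rw [eq_top_iff]
      intro g _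
      rw [Subsingleton.elim g 1]
      exact Subgroup.one_mem _
    have h2 : ∀ χ : IrrCharacter S, χ = f (one G) := by
      intro χ
      obtain ⟨χ', rfl⟩ := f.surjective χ
      rw [h1 χ']
    obtain ⟨p, hp, hpS⟩ := Nat.exists_prime_and_dvd (show Nat.card S ≠ 1 by omega)
    obtain ⟨χ, hχ, _⟩ := exists_not_dvd (G := S) hp hpS
    exact hχ ((h2 χ).trans (h2 (one S)).symm)
  have hperfS := commutator_eq_top_of_simple hna
  have hnpS := S4797.result.1 hperfS
  have hperf : commutator G = ⊤ := by
    rw [S4797.result]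
    intro χ
    have h1 := hnpS (f χ)
    have h2 := hf χ
    rw [cod_def, cod_def] at h2
    rw [h2]
    exact h1
  obtain ⟨N, hN, hsimp⟩ := exists_simple_quotient (G := G)
  have hperfQ : commutator (G ⧸ N) = ⊤ := by
    rw [commutator_def, ← Subgroup.map_top_of_surjective (QuotientGroup.mk' N)
      (QuotientGroup.mk'_surjective N), ← Subgroup.map_commutator, ← commutator_def, hperf]
  have hnaQ : ¬ IsMulCommutative (G ⧸ N) := by
    intro hc
    have hbot : commutator (G ⧸ N) = ⊥ := by
      rw [commutator_eq_closure, Subgroup.closure_eq_bot_iff]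
      rintro _ ⟨a, b, rfl⟩
      rw [Set.mem_singleton_iff, commutatorElement_eq_one_iff_mul_comm]
      exact hc.is_comm.comm a b
    rw [hperfQ] at hbot
    exact top_ne_bot hbot
  have hQ3 := card_ge_three hnaQ
  let j : IrrCharacter (G ⧸ N) → IrrCharacter S := fun ψ => f (infl N ψ)
  have hj : Function.Injective j := f.injective.comp (infl_injective N)
  obtain ⟨hcard, hsur, hdeg⟩ := key hS3 hQ3 j hj fun ψ => by
    rw [← hf, cod_infl]
  -- every irreducible character of `G` has `N` in the kernel
  have hall : ∀ χ : IrrCharacter G, N ≤ chKer χ := by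
    intro χ
    obtain ⟨ψ, hψ⟩ := hsur (f χ)
    have : infl N ψ = χ := f.injective hψ
    rw [← this]
    exact le_chKer_infl N ψ
  have hNbot : N = ⊥ := by
    rw [eq_bot_iff]
    intro g hg
    exact mem_of_forall_chKer (⊥ : Subgroup G) fun χ _ => hall χ hg
  have e : G ≃* (G ⧸ N) := by
    subst hNbot
    exact (QuotientGroup.quotientBot (G := G)).symm
  have hcardG : Nat.card G = Nat.card (G ⧸ N) := Nat.card_congr e.toEquiv
  have hsG : IsSimpleGroup G := by
    have := hsimp
    exact IsSimpleGroup.isSimpleGroup_of_surjective e.symm.toMonoidHom e.symm.surjective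
  refine ⟨hsG, ?_, hcardG.trans hcard, ?_⟩
  · intro hc
    apply hnaQ
    refine ⟨⟨fun a b => ?_⟩⟩
    obtain ⟨a', rfl⟩ := e.surjective a
    obtain ⟨b', rfl⟩ := e.surjective b
    rw [← map_mul, ← map_mul, hc.is_comm.comm]
  · intro χ
    obtain ⟨ψ, hψ⟩ := hsur (f χ)
    have h1 : infl N ψ = χ := f.injective hψ
    rw [← hψ, ← hdeg ψ, ← h1, charDegree_infl]

end Cfsg.Agent.H677.CodMain
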