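import Mathlib
import Cfsg.Prelude.Def_Blocks
import Cfsg.Agent.H677.FusedDeg

/-!
# Lower bound for the degrees of the irreducible characters of `PSL₃(q)`

`charDegree_ge`: a nonprincipal irreducible character of a simple group isomorphic to `PSL₃(q)` has
degree at least `q² - 1`.
-/

set_option autoImplicit false

namespace Cfsg.Agent.H677.PslThree

open Cfsg Cfsg.Agent.H686.CharKit Cfsg.Agent.H677.CodMultiset
open scoped MatrixGroups

universe u

variable {F : Type} [Field F]

/-- The transvections `1 + a E₁₃ + b E₂₃`. -/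
def tv (v : F × F) : Matrix.SpecialLinearGroup (Fin 3) F :=
  ⟨!![1, 0, v.1; 0, 1, v.2; 0, 0, 1], by simp [Matrix.det_fin_three]⟩

theorem tv_mul (v w : F × F) : tv v * tv w = tv (v + w) := by
  apply Subtype.ext
  change !![1, 0, v.1; 0, 1, v.2; 0, 0, 1] * !![1, 0, w.1; 0, 1, w.2; 0, 0, 1] =
    !![1, 0, (v + w).1; 0, 1, (v + w).2; 0, 0, 1]
  ext i j
  fin_cases i <;> fin_cases j <;> simp [Matrix.mul_apply, Fin.sum_univ_three, add_comm]

theorem tv_zero : tv (0 : F × F) = 1 := by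
  apply Subtype.ext
  change !![1, 0, (0 : F × F).1; 0, 1, (0 : F × F).2; 0, 0, 1] = (1 : Matrix (Fin 3) (Fin 3) F)
  ext i j
  fin_cases i <;> fin_cases j <;> simp

/-- `tv` as a homomorphism. -/
def tvHom : Multiplicative (F × F) →* Matrix.SpecialLinearGroup (Fin 3) F where
  toFun v := tv v.toAdd
  map_one' := tv_zero
  map_mul' v w := (tv_mul v.toAdd w.toAdd).symm

/-- The block matrices. -/
def bl (a b c d : F) (h : a * d - b * c = 1) : Matrix.SpecialLinearGroup (Fin 3) F :=
  ⟨!![a, b, 0; c, d, 0; 0, 0, 1], by simp [Matrix.det_fin_three, h]⟩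

theorem bl_conj (a b c d : F) (h : a * d - b * c = 1) (v : F × F) :
    bl a b c d h * tv v * (bl a b c d h)⁻¹ = tv (a * v.1 + b * v.2, c * v.1 + d * v.2) := by
  rw [mul_inv_eq_iff_eq_mul]
  apply Subtype.ext
  change !![a, b, 0; c, d, 0; 0, 0, 1] * !![1, 0, v.1; 0, 1, v.2; 0, 0, 1] =
    !![1, 0, a * v.1 + b * v.2; 0, 1, c * v.1 + d * v.2; 0, 0, 1] *
      !![a, b, 0; c, d, 0; 0, 0, 1]
  ext i j
  fin_cases i <;> fin_cases j <;> simp [Matrix.mul_apply, Fin.sum_univ_three]

theorem isConj_tv {v : F × F} (hv : v ≠ 0) : IsConj (tv ((1 : F), (0 : F))) (tv v) := by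
  rw [isConj_iff]
  by_cases h1 : v.1 = 0
  · have h2 : v.2 ≠ 0 := fun h => hv (Prod.ext h1 h)
    refine ⟨bl 0 (-v.2⁻¹) v.2 0 (by field_simp; ring), ?_⟩
    rw [bl_conj]
    congr 1
    ext <;> simp [h1]
  · refine ⟨bl v.1 0 v.2 v.1⁻¹ (by field_simp; ring), ?_⟩
    rw [bl_conj]
    congr 1
    ext <;> simp

theorem tv_center {v : F × F} (h : tv v ∈ Subgroup.center (Matrix.SpecialLinearGroup (Fin 3) F)) :
    v = 0 := by
  rw [Matrix.SpecialLinearGroup.mem_center_iff] at h
  obtain ⟨r, _, hr⟩ := h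
  have h1 := congrFun (congrFun hr 0) 2
  have h2 := congrFun (congrFun hr 1) 2
  have h3 : ((tv v : Matrix.SpecialLinearGroup (Fin 3) F) : Matrix (Fin 3) (Fin 3) F) =
    !![1, 0, v.1; 0, 1, v.2; 0, 0, 1] := rfl
  rw [h3] at h1 h2
  simp [Matrix.scalar_apply] at h1 h2
  exact Prod.ext h1.symm h2.symm

/-- **Degrees of `PSL₃(q)`**: a nonprincipal irreducible character has degree at least `q² - 1`. -/
theorem charDegree_ge [Finite F] {K : Type u} [Group K] [Finite K] [IsSimpleGroup K]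
    (e : K ≃* Matrix.ProjectiveSpecialLinearGroup (Fin 3) F) (χ : IrrCharacter K)
    (hχ : χ ≠ one K) : Nat.card F ^ 2 - 1 ≤ charDegree (χ : K → ℂ) := by
  let f : Multiplicative (F × F) →* K := (e.symm.toMonoidHom.comp (QuotientGroup.mk' _)).comp tvHom
  have hfinj : Function.Injective f := by
    rw [injective_iff_map_eq_one]
    intro v hv
    have h1 : (QuotientGroup.mk' (Subgroup.center (Matrix.SpecialLinearGroup (Fin 3) F)))
        (tvHom v) = 1 := by
      apply e.symm.injective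
      rw [map_one]
      exact hv
    rw [QuotientGroup.mk'_apply, QuotientGroup.eq_one_iff] at h1
    exact tv_center h1
  have hcard : Nat.card f.range = Nat.card F ^ 2 := by
    rw [← Nat.card_congr (MonoidHom.ofInjective hfinj).toEquiv]
    change Nat.card (F × F) = _
    rw [Nat.card_prod, pow_two]
  have hconj : ∀ v : F × F, v ≠ 0 → IsConj (f (Multiplicative.ofAdd ((1 : F), (0 : F))))
      (f (Multiplicative.ofAdd v)) := by
    intro v hv
    exact MonoidHom.map_isConj (e.symm.toMonoidHom.comp (QuotientGroup.mk' _)) (isConj_tv hv)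
  have hne : ∀ v : F × F, f (Multiplicative.ofAdd v) ≠ 1 → v ≠ 0 := by
    rintro v h rfl
    apply h
    exact map_one f
  rw [← hcard]
  apply FusedDeg.charDegree_ge
  · rintro _ ⟨a, rfl⟩ _ ⟨b, rfl⟩
    rw [← map_mul, mul_comm, map_mul]
  · rintro _ ⟨a, rfl⟩ _ ⟨b, rfl⟩ ha hb
    exact (hconj a.toAdd (hne _ ha)).symm.trans (hconj b.toAdd (hne _ hb))
  · intro hle
    rw [chKer_eq_bot hχ, le_bot_iff, MonoidHom.range_eq_bot_iff] at hle
    have h1 : f (Multiplicative.ofAdd ((1 : F), (0 : F))) = 1 := by rw [hle]; rfl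
    have h2 := hfinj (h1.trans (map_one f).symm)
    have h3 : ((1 : F), (0 : F)) = (0 : F × F) := h2
    exact one_ne_zero (congrArg Prod.fst h3)

end Cfsg.Agent.H677.PslThree
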